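import Mathlib

/-!
Finite facts about the four dimensional module of the dihedral group of order ten over `ZMod 2`.
-/

set_option autoImplicit false

namespace Cfsg.Agent.H40.AFiveRadical

abbrev V : Type := Fin 4 → ZMod 2

abbrev W2 : Type := Fin 2 → ZMod 2

abbrev W4 : Type := Fin 4 → ZMod 4

/-- the element of order five -/
def mR (v : V) : V := ![v 3, v 0 + v 3, v 1 + v 3, v 2 + v 3]

/-- the inverting involution -/
def mA (v : V) : V := ![v 0 + v 1, v 1, v 1 + v 3, v 1 + v 2]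

/-- orbit representatives -/
def o1 : V := ![1, 0, 0, 0]
def o2 : V := ![1, 1, 0, 0]
def o3 : V := ![1, 0, 1, 0]
def oW : V := ![0, 0, 1, 1]

theorem R_five : ∀ v : V, mR (mR (mR (mR (mR v)))) = v := by decide +kernel

theorem R_fixed : ∀ v : V, mR v = v → v = 0 := by decide +kernel

theorem A_ne : ∃ v : V, mA v ≠ v := by decide +kernel

theorem A_image : ∀ v : V, (∃ w : V, mA w + w = v) ↔ mA v = v := by decide +kernel

theorem R_surj : ∀ v : V, ∃ w : V, mR w + w = v := by decide +kernel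

theorem orbit_cases : ∀ v : V, v = 0 ∨
    (v = o1 ∨ v = mR o1 ∨ v = mR (mR o1) ∨ v = mR (mR (mR o1)) ∨ v = mR (mR (mR (mR o1)))) ∨
    (v = o2 ∨ v = mR o2 ∨ v = mR (mR o2) ∨ v = mR (mR (mR o2)) ∨ v = mR (mR (mR (mR o2)))) ∨
    (v = o3 ∨ v = mR o3 ∨ v = mR (mR o3) ∨ v = mR (mR (mR o3)) ∨ v = mR (mR (mR (mR o3)))) := by
  decide +kernel

/-- an equivariant map given by the values on three orbit representatives -/
def qOf {T : Type} [Zero T] (f : T → T) (a b c : T) (v : V) : T :=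
  if v = o1 then a else if v = mR o1 then f a else if v = mR (mR o1) then f (f a)
  else if v = mR (mR (mR o1)) then f (f (f a)) else if v = mR (mR (mR (mR o1))) then f (f (f (f a)))
  else if v = o2 then b else if v = mR o2 then f b else if v = mR (mR o2) then f (f b)
  else if v = mR (mR (mR o2)) then f (f (f b)) else if v = mR (mR (mR (mR o2))) then f (f (f (f b)))
  else if v = o3 then c else if v = mR o3 then f c else if v = mR (mR o3) then f (f c)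
  else if v = mR (mR (mR o3)) then f (f (f c)) else if v = mR (mR (mR (mR o3))) then f (f (f (f c)))
  else 0

theorem eq_qOf {T : Type} [Zero T] (f : T → T) (q : V → T) (h0 : q 0 = 0) (hR : ∀ v, q (mR v) = f (q v)) :
    q = qOf f (q o1) (q o2) (q o3) := by
  funext v
  rcases orbit_cases v with rfl | (rfl | rfl | rfl | rfl | rfl) | (rfl | rfl | rfl | rfl | rfl) |
    (rfl | rfl | rfl | rfl | rfl) <;>
    first
      | rfl
      | exact h0.trans rfl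
      | (simp only [hR]; rfl)

/-- the quadratic identity -/
def tri {T : Type} [Add T] (q : V → T) (x y z : V) : T :=
  q (x + y + z) + q (x + y) + q (x + z) + q (y + z) + q x + q y + q z

def t0 : V := ![1, 0, 0, 0]
def t1 : V := ![0, 1, 0, 0]
def t2 : V := ![0, 0, 1, 0]

set_option maxHeartbeats 4000000 in
set_option synthInstance.maxSize 2000 in
set_option synthInstance.maxHeartbeats 200000 in
theorem map16_aux : ∀ a : V, mA a = a → ∀ b : V, mA b = qOf mR 0 b 0 (mA o2) →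
    ∀ c : V, mA c = qOf mR 0 0 c (mA o3) → tri (qOf mR a b c) t0 t1 t2 = 0 →
      (∃ v : V, v ≠ 0 ∧ qOf mR a b c v = 0) ∨
      (qOf mR a b c o1 ≠ 0 ∧ qOf mR a b c oW = qOf mR a b c o1 ∧ qOf mR a b c (o1 + oW) = qOf mR a b c o1) ∨
      (∀ x y : V, qOf mR a b c (x + y) = qOf mR a b c x + qOf mR a b c y) := by
  decide +kernel

/-- equivariant quadratic maps of the module to itself -/
theorem map16 (q : V → V) (h0 : q 0 = 0) (hR : ∀ v, q (mR v) = mR (q v)) (hA : ∀ v, q (mA v) = mA (q v))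
    (ht : ∀ x y z, tri q x y z = 0) :
    (∃ v : V, v ≠ 0 ∧ q v = 0) ∨
      (q o1 ≠ 0 ∧ q oW = q o1 ∧ q (o1 + oW) = q o1) ∨ (∀ x y : V, q (x + y) = q x + q y) := by
  have e := eq_qOf mR q h0 hR
  obtain ⟨a, ha⟩ : ∃ a, a = q o1 := ⟨_, rfl⟩
  obtain ⟨b, hb⟩ : ∃ b, b = q o2 := ⟨_, rfl⟩
  obtain ⟨c, hc⟩ : ∃ c, c = q o3 := ⟨_, rfl⟩
  rw [← ha, ← hb, ← hc] at e
  have k1 : mA a = a := by rw [ha, ← hA, show mA o1 = o1 by decide]
  have k2 : mA b = qOf mR 0 b 0 (mA o2) := by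
    rw [show qOf mR 0 b 0 (mA o2) = qOf mR a b c (mA o2) by
      simp (config := { decide := true }) only [qOf, if_true, if_false], ← e, hA, hb]
  have k3 : mA c = qOf mR 0 0 c (mA o3) := by
    rw [show qOf mR 0 0 c (mA o3) = qOf mR a b c (mA o3) by
      simp (config := { decide := true }) only [qOf, if_true, if_false], ← e, hA, hc]
  have := map16_aux a k1 b k2 c k3 (e ▸ ht t0 t1 t2)
  rwa [← e] at this

def br {T : Type} [Add T] (q : V → T) (x y : V) : T := q (x + y) + q x + q y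

theorem map2_aux : ∀ a b c : ZMod 2, (∀ x y z : V, tri (qOf id a b c) x y z = 0) →
    (∀ v, qOf id a b c v = 0) ∨ ∃ x y u w : V, qOf id a b c x = 0 ∧ qOf id a b c y = 1 ∧ qOf id a b c u = 1 ∧
      qOf id a b c w = 1 ∧ br (qOf id a b c) x y = 1 ∧ br (qOf id a b c) u w = 1 ∧ br (qOf id a b c) x u = 0 ∧
      br (qOf id a b c) x w = 0 ∧ br (qOf id a b c) y u = 0 ∧ br (qOf id a b c) y w = 0 ∧
      ∀ v : V, ∃ i j k l : Fin 2, v = (i : ℕ) • x + (j : ℕ) • y + (k : ℕ) • u + (l : ℕ) • w := by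
  intro a b c h
  have key : ∀ a b c : ZMod 2, tri (qOf id a b c) t0 t1 t2 = 0 →
      (a = 0 ∧ b = 0 ∧ c = 0) ∨ (a = 0 ∧ b = 1 ∧ c = 1) ∨ (a = 1 ∧ b = 0 ∧ c = 1) ∨ (a = 1 ∧ b = 1 ∧ c = 0) := by
    decide +kernel
  rcases key a b c (h _ _ _) with ⟨rfl, rfl, rfl⟩ | ⟨rfl, rfl, rfl⟩ | ⟨rfl, rfl, rfl⟩ | ⟨rfl, rfl, rfl⟩
  · exact Or.inl (by decide +kernel)
  · exact Or.inr ⟨![1, 0, 0, 0], ![1, 1, 0, 0], ![1, 1, 1, 0], ![1, 1, 0, 1], by decide +kernel⟩
  · exact Or.inr ⟨![1, 1, 0, 0], ![0, 0, 1, 0], ![0, 1, 0, 0], ![0, 0, 0, 1], by decide +kernel⟩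
  · exact Or.inr ⟨![1, 0, 1, 0], ![0, 0, 0, 1], ![1, 0, 0, 0], ![0, 1, 0, 0], by decide +kernel⟩

/-- invariant quadratic forms -/
theorem map2 (q : V → ZMod 2) (h0 : q 0 = 0) (hR : ∀ v, q (mR v) = q v) (ht : ∀ x y z, tri q x y z = 0) :
    (∀ v, q v = 0) ∨ ∃ x y u w : V, q x = 0 ∧ q y = 1 ∧ q u = 1 ∧ q w = 1 ∧ br q x y = 1 ∧ br q u w = 1 ∧
      br q x u = 0 ∧ br q x w = 0 ∧ br q y u = 0 ∧ br q y w = 0 ∧
      ∀ v : V, ∃ i j k l : Fin 2, v = (i : ℕ) • x + (j : ℕ) • y + (k : ℕ) • u + (l : ℕ) • w := by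
  have e := eq_qOf id q h0 hR
  have := map2_aux (q o1) (q o2) (q o3) (fun x y z => e ▸ ht x y z)
  rwa [← e] at this

/-- orbit of the first representative -/
def orb1 : Fin 5 → V := ![o1, mR o1, mR (mR o1), mR (mR (mR o1)), mR (mR (mR (mR o1)))]

def col (a : Fin 4 → V) (v : V) : V := v 0 • a 0 + v 1 • a 1 + v 2 • a 2 + v 3 • a 3

def inOrb1 (v : V) : Bool :=
  decide (v = o1 ∨ v = mR o1 ∨ v = mR (mR o1) ∨ v = mR (mR (mR o1)) ∨ v = mR (mR (mR (mR o1))))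

def inOrb2 (v : V) : Bool :=
  decide (v = o2 ∨ v = mR o2 ∨ v = mR (mR o2) ∨ v = mR (mR (mR o2)) ∨ v = mR (mR (mR (mR o2))))

theorem no_three : ∀ i j k l : Fin 5,
    let r := col ![orb1 i, orb1 j, orb1 k, orb1 l]
    (∀ v, inOrb1 (r v) = inOrb1 v) → (∀ v, inOrb2 (r v) = inOrb2 v) → (∀ v, r (r (r v)) = v) → ∀ v, r v = v := by
  decide +kernel

set_option maxHeartbeats 4000000 in
set_option synthInstance.maxSize 2000 in
set_option synthInstance.maxHeartbeats 200000 in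
theorem map22_aux : ∀ a b c : W2, tri (qOf id a b c) t0 t1 t2 = 0 →
    (∀ f : W2, f ≠ 0 → f 0 * a 0 + f 1 * a 1 ≠ 0 ∨ f 0 * b 0 + f 1 * b 1 ≠ 0 ∨ f 0 * c 0 + f 1 * c 1 ≠ 0) →
    ∀ v : V, (qOf id a b c v = a ↔ inOrb1 v = true) ∧ (qOf id a b c v = b ↔ inOrb2 v = true) := by
  decide +kernel

/-- four-valued forms -/
theorem map22 (q : V → W2) (h0 : q 0 = 0) (hR : ∀ v, q (mR v) = q v) (ht : ∀ x y z, tri q x y z = 0)
    (hspan : ∀ f : W2, f ≠ 0 → ∃ v, f 0 * q v 0 + f 1 * q v 1 ≠ 0) (r : V → V)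
    (hadd : ∀ x y, r (x + y) = r x + r y) (hr3 : ∀ v, r (r (r v)) = v) (hq : ∀ v, q (r v) = q v) :
    ∀ v, r v = v := by
  have e := eq_qOf id q h0 hR
  have hsp : ∀ f : W2, f ≠ 0 → f 0 * q o1 0 + f 1 * q o1 1 ≠ 0 ∨ f 0 * q o2 0 + f 1 * q o2 1 ≠ 0 ∨
      f 0 * q o3 0 + f 1 * q o3 1 ≠ 0 := by
    intro f hf
    by_contra h
    push Not at h
    obtain ⟨v, hv⟩ := hspan f hf
    rcases orbit_cases v with rfl | (rfl | rfl | rfl | rfl | rfl) | (rfl | rfl | rfl | rfl | rfl) |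
      (rfl | rfl | rfl | rfl | rfl) <;> (try simp only [hR, h0] at hv) <;> first
        | exact hv h.1 | exact hv h.2.1 | exact hv h.2.2 | (exact hv (by simp))
  have h1 : ∀ v : V, (q v = q o1 ↔ inOrb1 v = true) ∧ (q v = q o2 ↔ inOrb2 v = true) := by
    have := map22_aux (q o1) (q o2) (q o3) (e ▸ ht t0 t1 t2) hsp
    rwa [← e] at this
  have hinv : ∀ v, inOrb1 (r v) = inOrb1 v := fun v => by
    rw [Bool.eq_iff_iff, ← (h1 _).1, ← (h1 _).1, hq]
  have hinv2 : ∀ v, inOrb2 (r v) = inOrb2 v := fun v => by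
    rw [Bool.eq_iff_iff, ← (h1 _).2, ← (h1 _).2, hq]
  have hbasis : ∀ v : V, v = v 0 • ![1, 0, 0, 0] + v 1 • ![0, 1, 0, 0] + v 2 • ![0, 0, 1, 0] + v 3 • ![0, 0, 0, 1] := by
    decide +kernel
  have hz : r 0 = 0 := by simpa using hadd 0 0
  have hsm : ∀ (s : ZMod 2) (v : V), r (s • v) = s • r v := by
    intro s v
    rcases (show ∀ s : ZMod 2, s = 0 ∨ s = 1 by decide) s with rfl | rfl
    · rw [zero_smul, zero_smul, hz]
    · rw [one_smul, one_smul]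
  have himg : ∀ v : V, inOrb1 v = true → ∃ i : Fin 5, r v = orb1 i := by
    intro v hv
    have key : ∀ v : V, inOrb1 v = true → ∃ i : Fin 5, v = orb1 i := by decide +kernel
    exact key _ (by rw [hinv, hv])
  obtain ⟨i, hi⟩ := himg ![1, 0, 0, 0] (by decide +kernel)
  obtain ⟨j, hj⟩ := himg ![0, 1, 0, 0] (by decide +kernel)
  obtain ⟨k, hk⟩ := himg ![0, 0, 1, 0] (by decide +kernel)
  obtain ⟨l, hl⟩ := himg ![0, 0, 0, 1] (by decide +kernel)
  have hrc : r = col ![orb1 i, orb1 j, orb1 k, orb1 l] := by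
    funext v
    conv_lhs => rw [hbasis v]
    rw [hadd, hadd, hadd, hsm, hsm, hsm, hsm, hi, hj, hk, hl]
    rfl
  exact hrc ▸ no_three i j k l (hrc ▸ hinv) (hrc ▸ hinv2) (hrc ▸ hr3)

/-- a matrix given by columns -/
def col4 (a b c d : W4) (x : W4) : W4 := x 0 • a + x 1 • b + x 2 • c + x 3 • d

/-- inversion of the image -/
def mN (x : W4) : W4 := ![x 0, x 1, x 0 - x 2, x 1 - x 3]

def natB (m1 m2 : W4) : W4 → W4 :=
  col4 m1 m2 (mN m1 - m1) (mN m2 - m2)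

/-- a lift of a transvection four-group does not exist -/
theorem natural_false : ∀ a b c d a' b' c' d' : Fin 2,
    ¬ (natB ![1 + 2 * (a.val : ZMod 4), 2 * (b.val : ZMod 4), 2 * (c.val : ZMod 4), 1 + 2 * (d.val : ZMod 4)]
          ![2 * (a'.val : ZMod 4), 1 + 2 * (b'.val : ZMod 4), 1 + 2 * (c'.val : ZMod 4), 1 + 2 * (d'.val : ZMod 4)]
          (natB ![1 + 2 * (a.val : ZMod 4), 2 * (b.val : ZMod 4), 2 * (c.val : ZMod 4), 1 + 2 * (d.val : ZMod 4)]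
          ![2 * (a'.val : ZMod 4), 1 + 2 * (b'.val : ZMod 4), 1 + 2 * (c'.val : ZMod 4), 1 + 2 * (d'.val : ZMod 4)]
            ![1, 0, 0, 0]) = ![1, 0, 0, 0] ∧
        natB ![1 + 2 * (a.val : ZMod 4), 2 * (b.val : ZMod 4), 2 * (c.val : ZMod 4), 1 + 2 * (d.val : ZMod 4)]
          ![2 * (a'.val : ZMod 4), 1 + 2 * (b'.val : ZMod 4), 1 + 2 * (c'.val : ZMod 4), 1 + 2 * (d'.val : ZMod 4)]
          (natB ![1 + 2 * (a.val : ZMod 4), 2 * (b.val : ZMod 4), 2 * (c.val : ZMod 4), 1 + 2 * (d.val : ZMod 4)]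
          ![2 * (a'.val : ZMod 4), 1 + 2 * (b'.val : ZMod 4), 1 + 2 * (c'.val : ZMod 4), 1 + 2 * (d'.val : ZMod 4)]
            ![0, 1, 0, 0]) = ![0, 1, 0, 0]) := by
  decide +kernel

end Cfsg.Agent.H40.AFiveRadical
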