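import Cfsg.Agent.Sec62.Groups
import Cfsg.Agent.H40.AFiveRadical.Models

/-!
Sections of rank five and coordinates for an automorphism of order five.
-/

set_option autoImplicit false
set_option linter.style.haveILetI false

namespace Cfsg.Agent.H40.AFiveRadical

variable {X : Type*} [Group X] [Finite X]

/-- five elements spanning an elementary abelian section contradict sectional rank four -/
theorem no_five (h4 : Cfsg.SectionalPRankLE 2 4 X) (K : Subgroup X) (s : Fin 5 → X)
    (hn : ∀ i, ∀ k ∈ K, s i * k * (s i)⁻¹ ∈ K) (hsq : ∀ i, s i * s i ∈ K)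
    (hcomm : ∀ i j, s i * s j * (s i)⁻¹ * (s j)⁻¹ ∈ K)
    (hind : ∀ e : Fin 5 → Fin 2, s 0 ^ (e 0).val * s 1 ^ (e 1).val * s 2 ^ (e 2).val * s 3 ^ (e 3).val *
      s 4 ^ (e 4).val ∈ K → ∀ i, e i = 0) : False := by
  classical
  have hsN : ∀ i, s i ∈ Subgroup.normalizer (K : Set X) := fun i => by
    rw [Subgroup.mem_normalizer_iff]
    refine fun k => ⟨hn i k, fun hk => ?_⟩
    have hinj : Function.Injective (fun k : K => (⟨s i * k * (s i)⁻¹, hn i k k.2⟩ : K)) := fun u v h =>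
      Subtype.ext (mul_left_cancel (mul_right_cancel (congrArg Subtype.val h)))
    obtain ⟨k', hk'⟩ := Finite.surjective_of_injective hinj ⟨_, hk⟩
    have : (k' : X) = k := mul_left_cancel (mul_right_cancel (congrArg Subtype.val hk'))
    exact this ▸ k'.2
  let G := Subgroup.normalizer (K : Set X)
  let f : G →* G ⧸ K.subgroupOf G := QuotientGroup.mk' _
  have hf1 : ∀ g : G, f g = 1 ↔ (g : X) ∈ K := fun g => by
    rw [show f g = ((g : G) : G ⧸ K.subgroupOf G) from rfl, QuotientGroup.eq_one_iff, Subgroup.mem_subgroupOf]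
  let s' : Fin 5 → G := fun i => ⟨s i, hsN i⟩
  let Y : Subgroup G := Subgroup.closure (Set.range s')
  let Z : Subgroup (G ⧸ K.subgroupOf G) := Subgroup.closure (Set.range (f ∘ s'))
  haveI : IsMulCommutative Z := Subgroup.isMulCommutative_closure (by
    rintro _ ⟨i, rfl⟩ _ ⟨j, rfl⟩
    show f (s' i) * f (s' j) = f (s' j) * f (s' i)
    rw [← mul_inv_eq_one, mul_inv_rev, ← mul_assoc, ← map_mul, ← map_inv, ← map_inv, ← map_mul, ← map_mul, hf1]
    simpa [s'] using hcomm i j)
  have hZ2 : ∀ z ∈ Z, z * z = 1 := by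
    intro z hz
    induction hz using Subgroup.closure_induction with
    | mem p hp =>
      obtain ⟨i, rfl⟩ := hp
      show f (s' i) * f (s' i) = 1
      rw [← map_mul, hf1]; exact hsq i
    | one => simp
    | mul p q hp hq ihp ihq =>
      have hc : p * q = q * p := congrArg Subtype.val
        (IsMulCommutative.is_comm.comm (⟨p, hp⟩ : Z) ⟨q, hq⟩)
      rw [show p * q * (p * q) = p * (q * p) * q by group, ← hc,
        show p * (p * q) * q = (p * p) * (q * q) by group, ihp, ihq, one_mul]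
    | inv p _ ih => rw [← mul_inv_rev, ih, inv_one]
  have hYZ : ∀ y ∈ Y, f y ∈ Z := fun y hy => by
    have : f y ∈ Y.map f := Subgroup.mem_map_of_mem f hy
    rwa [MonoidHom.map_closure, ← Set.range_comp] at this
  let g : Y →* G ⧸ K.subgroupOf G := f.comp Y.subtype
  have h16 := FGS82.ea_image_le h4 (G.subtype.comp Y.subtype)
    ((Subgroup.subtype_injective G).comp (Subgroup.subtype_injective Y)) g.rangeRestrict
    g.rangeRestrict_surjective (by
      rintro ⟨v, y, rfl⟩
      exact Subtype.ext (hZ2 _ (hYZ y.1 y.2)))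
  let pick : (Fin 5 → Fin 2) → G := fun e => s' 0 ^ (e 0).val * s' 1 ^ (e 1).val * s' 2 ^ (e 2).val *
    s' 3 ^ (e 3).val * s' 4 ^ (e 4).val
  have hpick : ∀ e, pick e ∈ Y := fun e => by
    have hm : ∀ i, s' i ∈ Y := fun i => Subgroup.subset_closure ⟨i, rfl⟩
    exact mul_mem (mul_mem (mul_mem (mul_mem (pow_mem (hm 0) _) (pow_mem (hm 1) _)) (pow_mem (hm 2) _))
      (pow_mem (hm 3) _)) (pow_mem (hm 4) _)
  let z : Fin 5 → Z := fun i => ⟨f (s' i), Subgroup.subset_closure ⟨i, rfl⟩⟩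
  let pickZ : (Fin 5 → Fin 2) → Z := fun e => z 0 ^ (e 0).val * z 1 ^ (e 1).val * z 2 ^ (e 2).val *
    z 3 ^ (e 3).val * z 4 ^ (e 4).val
  have hpz : ∀ e, (pickZ e : G ⧸ K.subgroupOf G) = f (pick e) := fun e => by
    simp [pickZ, pick, z]
  let d : (Fin 5 → Fin 2) → (Fin 5 → Fin 2) → (Fin 5 → Fin 2) := fun e e' i => e i + e' i
  have hd : ∀ e e', pickZ (d e e') = pickZ e * pickZ e' := fun e e' => by
    have hp : ∀ (w : Z) (a b : Fin 2), w ^ (a + b).val = w ^ a.val * w ^ b.val := fun w a b => by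
      fin_cases a <;> fin_cases b <;> simp
      exact (Subtype.ext (hZ2 _ w.2)).symm
    letI : CommGroup Z := { (inferInstance : Group Z) with mul_comm := IsMulCommutative.is_comm.comm }
    simp only [pickZ, d, hp]
    generalize z 0 ^ (e 0).val = x0, z 1 ^ (e 1).val = x1, z 2 ^ (e 2).val = x2, z 3 ^ (e 3).val = x3,
      z 4 ^ (e 4).val = x4, z 0 ^ (e' 0).val = y0, z 1 ^ (e' 1).val = y1, z 2 ^ (e' 2).val = y2,
      z 3 ^ (e' 3).val = y3, z 4 ^ (e' 4).val = y4
    ac_rfl
  let Φ : (Fin 5 → Fin 2) → g.range := fun e => g.rangeRestrict ⟨pick e, hpick e⟩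
  have hΦ : Function.Injective Φ := by
    intro e e' h
    have h' : f (pick e) = f (pick e') := congrArg Subtype.val h
    have h1 : f (pick (d e e')) = 1 := by
      rw [← hpz, hd, Subgroup.coe_mul, hpz, hpz, h']
      exact hZ2 _ (hYZ _ (hpick e'))
    rw [hf1] at h1
    have h0 := hind (d e e') (by simpa [pick, s'] using h1)
    funext i
    have key : ∀ a b : Fin 2, a + b = 0 → a = b := by decide
    exact key _ _ (h0 i)
  have h32 := Nat.card_le_card_of_injective Φ hΦ
  rw [Nat.card_fun, Nat.card_fin, Nat.card_fin] at h32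
  omega

variable {W : Type*} [CommGroup W] [Finite W]

/-- fixed points of an automorphism of order five -/
theorem card_fixed_mod (σ : MulAut W) (hσ : σ ^ 5 = 1) :
    Nat.card W % 5 = Nat.card {w : W // σ w = w} % 5 := by
  haveI := Fact.mk (show Nat.Prime 5 by norm_num)
  have hP : IsPGroup 5 (Subgroup.zpowers σ) := by
    intro g
    refine ⟨1, ?_⟩
    obtain ⟨n, hn⟩ := Subgroup.mem_zpowers_iff.mp g.2
    refine Subtype.ext ?_
    rw [pow_one, Subgroup.coe_pow, Subgroup.coe_one, ← hn, ← zpow_natCast, ← zpow_mul, mul_comm, zpow_mul,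
      zpow_natCast, hσ, one_zpow]
  have h := hP.card_modEq_card_fixedPoints W
  refine h.trans ?_
  refine congrArg (· % 5) (Nat.card_congr (Equiv.subtypeEquivRight fun w => ?_))
  constructor
  · intro hw; exact hw ⟨σ, Subgroup.mem_zpowers σ⟩
  · intro hw g
    obtain ⟨n, hn⟩ := Subgroup.mem_zpowers_iff.mp g.2
    show (g : MulAut W) w = w
    have hs : σ ∈ MulAction.stabilizer (MulAut W) w := hw
    rw [← hn]
    exact zpow_mem hs n

/-- a nontrivial automorphism of order five of a small elementary group is free -/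
theorem free_of_ne {n : ℕ} (hn : n ≤ 4) (hW : Nat.card W = 2 ^ n) (σ : MulAut W) (hσ : σ ^ 5 = 1)
    (hne : ∃ w, σ w ≠ w) : Nat.card W = 16 ∧ ∀ w, σ w = w → w = 1 := by
  classical
  let C : Subgroup W :=
    { carrier := {w | σ w = w}
      one_mem' := map_one σ
      mul_mem' := fun {a b} ha hb => by
        show σ (a * b) = a * b
        rw [map_mul, show σ a = a from ha, show σ b = b from hb]
      inv_mem' := fun {a} ha => by
        show σ a⁻¹ = a⁻¹
        rw [map_inv, show σ a = a from ha] }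
  have hmod : Nat.card W % 5 = Nat.card C % 5 := card_fixed_mod σ hσ
  have hdvd : Nat.card C ∣ 2 ^ n := hW ▸ C.card_subgroup_dvd_card
  obtain ⟨i, hi, hC⟩ := (Nat.dvd_prime_pow Nat.prime_two).mp hdvd
  have hlt : i ≠ n := by
    rintro rfl
    obtain ⟨w, hw⟩ := hne
    have : C = ⊤ := Subgroup.eq_top_of_card_eq C (hC.trans hW.symm)
    exact hw (this.ge (Subgroup.mem_top w))
  rw [hW, hC] at hmod
  have key : ∀ n i : Fin 5, (i : ℕ) ≤ n → i ≠ n → 2 ^ (n : ℕ) % 5 = 2 ^ (i : ℕ) % 5 → (n : ℕ) = 4 ∧ (i : ℕ) = 0 := by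
    decide
  obtain ⟨h1, h2⟩ := key ⟨n, by omega⟩ ⟨i, by omega⟩ hi (fun h => hlt (congrArg Fin.val h)) hmod
  simp only at h1 h2
  refine ⟨by rw [hW, h1]; rfl, fun w hw => ?_⟩
  have : C = ⊥ := Subgroup.eq_bot_of_card_eq C (by rw [hC, h2, pow_zero])
  exact Subgroup.mem_bot.mp (this.le (show w ∈ C from hw))

theorem comm4 {M : Type*} [CommMonoid M] (a a' b b' c c' d d' : M) :
    a * a' * (b * b') * (c * c') * (d * d') = a * b * c * d * (a' * b' * c' * d') := by ac_rfl

theorem comm_mR {M : Type*} [CommMonoid M] (a b1 b c1 c d1 d : M) :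
    a * (b1 * b) * (c1 * c) * (d1 * d) = b1 * c1 * d1 * (a * b * c * d) := by ac_rfl

theorem comm_mA {M : Type*} [CommMonoid M] (a0 a b c' c d' d : M) :
    a0 * a * b * (c * c') * (d * d') = a0 * (a * b * c * d) * d' * c' := by ac_rfl

/-- coordinates adapted to a dihedral group of order ten -/
theorem coords (h2 : ∀ w : W, w * w = 1) (hcard : Nat.card W = 16) (σ τ : MulAut W) (hσ : σ ^ 5 = 1)
    (hfix : ∀ w, σ w = w → w = 1) (hτ : ∀ w, τ (τ w) = w) (hinv : ∀ w, σ (τ (σ w)) = τ w) :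
    ∃ e : V → W, Function.Bijective e ∧ (∀ u v, e (u + v) = e u * e v) ∧ (∀ v, e (mR v) = σ (e v)) ∧
      ∀ v, e (mA v) = τ (e v) := by
  classical
  -- a fixed point of the involution
  obtain ⟨w0, hw0, hw1⟩ : ∃ w0 : W, τ w0 = w0 ∧ w0 ≠ 1 := by
    by_contra h
    push Not at h
    obtain ⟨w, hw⟩ : ∃ w : W, w ≠ 1 := by
      by_contra h'
      push Not at h'
      have : Subsingleton W := ⟨fun a b => (h' a).trans (h' b).symm⟩
      rw [Nat.card_of_subsingleton (1 : W)] at hcard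
      omega
    have hm : w * τ w = 1 := h _ (by rw [map_mul, hτ, mul_comm])
    exact hw (h w ((eq_inv_of_mul_eq_one_right hm).trans (inv_eq_of_mul_eq_one_right (h2 w))))
  let b : Fin 5 → W := fun i => (σ ^ (i : ℕ)) w0
  have hb5 : b 0 * b 1 * b 2 * b 3 * b 4 = 1 := by
    refine hfix _ ?_
    have h5 : σ (b 4) = b 0 := by
      show σ ((σ ^ 4) w0) = (σ ^ 0) w0
      rw [← MulAut.mul_apply, ← pow_succ', hσ, pow_zero]
    have hs : ∀ i : Fin 4, σ (b i.castSucc) = b i.succ := fun i => by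
      show σ ((σ ^ (i : ℕ)) w0) = _
      rw [← MulAut.mul_apply, ← pow_succ']; rfl
    rw [map_mul, map_mul, map_mul, map_mul, h5, show σ (b 0) = b 1 from hs 0, show σ (b 1) = b 2 from hs 1,
      show σ (b 2) = b 3 from hs 2, show σ (b 3) = b 4 from hs 3]
    exact (mul_comm _ _).trans (by simp only [mul_assoc])
  have hb4 : b 4 = b 0 * b 1 * b 2 * b 3 := by
    rw [← inv_eq_of_mul_eq_one_right hb5, inv_eq_of_mul_eq_one_right (h2 _)]
  let e : V → W := fun v => b 0 ^ (v 0).val * b 1 ^ (v 1).val * b 2 ^ (v 2).val * b 3 ^ (v 3).val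
  have hp : ∀ (w : W) (a c : ZMod 2), w ^ (a + c).val = w ^ a.val * w ^ c.val := fun w a c => by
    rcases (show ∀ s : ZMod 2, s = 0 ∨ s = 1 by decide) a with rfl | rfl <;>
      rcases (show ∀ s : ZMod 2, s = 0 ∨ s = 1 by decide) c with rfl | rfl <;> simp [ZMod.val_one, h2 w]
    rw [show ((1 : ZMod 2) + 1).val = 0 from rfl, pow_zero]
  have hadd : ∀ u v, e (u + v) = e u * e v := fun u v => by
    simp only [e, Pi.add_apply, hp]
    exact comm4 ..
  have hσb : ∀ i : Fin 4, σ (b i.castSucc) = b i.succ := fun i => by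
    show σ ((σ ^ (i : ℕ)) w0) = _
    rw [← MulAut.mul_apply, ← pow_succ']; rfl
  have heR : ∀ v, e (mR v) = σ (e v) := fun v => by
    simp only [e, map_mul, map_pow]
    rw [show σ (b 0) = b 1 from hσb 0, show σ (b 1) = b 2 from hσb 1, show σ (b 2) = b 3 from hσb 2,
      show σ (b 3) = b 4 from hσb 3, hb4, mul_pow, mul_pow, mul_pow]
    simp only [mR, Matrix.cons_val_zero, Matrix.cons_val_one, Matrix.cons_val, hp]
    exact comm_mR ..
  have hτb : τ (b 0) = b 0 ∧ τ (b 1) = b 4 ∧ τ (b 2) = b 3 ∧ τ (b 3) = b 2 := by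
    have key : ∀ k : ℕ, k ≤ 5 → (σ ^ k) (τ ((σ ^ k) w0)) = w0 := by
      intro k hk
      induction k with
      | zero => exact hw0
      | succ k ih =>
        rw [show (σ ^ (k + 1)) (τ ((σ ^ (k + 1)) w0)) = (σ ^ k * σ) (τ ((σ * σ ^ k) w0)) by
          rw [← pow_succ, ← pow_succ'], MulAut.mul_apply, MulAut.mul_apply, hinv]
        exact ih (by omega)
    have inv5 : ∀ k l : ℕ, k + l = 5 → τ ((σ ^ k) w0) = (σ ^ l) w0 := by
      intro k l hkl
      have h := key k (by omega)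
      conv_rhs => rw [← h, ← MulAut.mul_apply, ← pow_add, Nat.add_comm, hkl, hσ]
      rfl
    exact ⟨hw0, inv5 1 4 rfl, inv5 2 3 rfl, inv5 3 2 rfl⟩
  have heA : ∀ v, e (mA v) = τ (e v) := fun v => by
    simp only [e, map_mul, map_pow]
    rw [hτb.1, hτb.2.1, hτb.2.2.1, hτb.2.2.2, hb4, mul_pow, mul_pow, mul_pow]
    simp only [mA, Matrix.cons_val_zero, Matrix.cons_val_one, Matrix.cons_val, hp]
    exact comm_mA ..
  -- the image is an invariant subgroup
  have he0 : e 0 = 1 := by simp [e]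
  let U : Subgroup W :=
    { carrier := Set.range e
      one_mem' := ⟨0, he0⟩
      mul_mem' := by rintro _ _ ⟨u, rfl⟩ ⟨v, rfl⟩; exact ⟨u + v, hadd u v⟩
      inv_mem' := by rintro _ ⟨u, rfl⟩; exact ⟨u, (inv_eq_of_mul_eq_one_right (h2 _)).symm⟩ }
  have hker : ∀ v, e v = 1 → v = 0 := by
    intro v hv
    by_contra hv0
    have hkR : ∀ w, e w = 1 → e (mR w) = 1 := fun w hw => by rw [heR, hw, map_one]
    have hspan : ∀ v : V, v ≠ 0 → ∃ i j k l : Fin 2, ![1, 0, 0, 0] =
        (i : ℕ) • v + (j : ℕ) • mR v + (k : ℕ) • mR (mR v) + (l : ℕ) • mR (mR (mR v)) := by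
      decide +kernel
    obtain ⟨i, j, k, l, h⟩ := hspan v hv0
    have hs : ∀ (n : Fin 2) (u : V), e u = 1 → e ((n : ℕ) • u) = 1 := fun n u hu => by
      fin_cases n <;> simp [he0, hu]
    have h1 : e ![1, 0, 0, 0] = 1 := by
      rw [h, hadd, hadd, hadd, hs i _ hv, hs j _ (hkR _ hv), hs k _ (hkR _ (hkR _ hv)),
        hs l _ (hkR _ (hkR _ (hkR _ hv)))]
      simp
    exact hw1 (by simpa [e, b, ZMod.val_one] using h1)
  have hinj : Function.Injective e := by
    intro u v h
    have h1 : e (u + v) = 1 := by rw [hadd, h, h2]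
    have := hker _ h1
    exact (CharTwo.add_eq_iff_eq_add.mp this).trans (zero_add v)
  refine ⟨e, (Nat.bijective_iff_injective_and_card e).mpr ⟨hinj, ?_⟩, hadd, heR, heA⟩
  rw [hcard, Nat.card_eq_fintype_card]; rfl

end Cfsg.Agent.H40.AFiveRadical
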