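import Cfsg.Agent.H40.AFiveRadical.Basic
import Cfsg.Agent.Sec62.Main

/-!
The elements of `A₅` acting on a normal 2-subgroup, and coordinates on invariant sections.
-/

set_option autoImplicit false
set_option linter.style.haveILetI false

namespace Cfsg.Agent.H40.AFiveRadical

variable {X : Type*} [Group X]

/-- elements of a group lying over the elements of `A₅` that are used -/
structure Data (Q : Subgroup X) where
  ρ : X
  r : X
  a : X
  b : X
  g : X
  h : X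
  ρ5 : ρ ^ 5 = 1
  r3 : r ^ 3 = 1
  ρQ : ρ ∉ Q
  rQ : r ∉ Q
  aQ : a ∉ Q
  a2 : a * a ∈ Q
  inv : a * ρ * a⁻¹ * ρ ∈ Q
  b_def : b = g * a * g⁻¹
  c_def : a * b * (h * a * h⁻¹)⁻¹ ∈ Q
  comm : a * b * a⁻¹ * b⁻¹ ∈ Q
  abQ : a * b ∉ Q
  simple : ∀ N : Subgroup X, N.Normal → Q ≤ N → N = Q ∨ N = ⊤

/-- the image of the data in a quotient -/
def Data.map {Q : Subgroup X} (D : Data Q) {Y : Type*} [Group Y] (f : X →* Y) (hf : Function.Surjective f)
    (hker : f.ker ≤ Q) : Data (Q.map f) :=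
  have hmem : ∀ {x : X}, f x ∈ Q.map f → x ∈ Q := fun {x} hx => by
    obtain ⟨q, hq, he⟩ := hx
    have := mul_mem hq (hker (show q⁻¹ * x ∈ f.ker by rw [MonoidHom.mem_ker, map_mul, map_inv, he, inv_mul_cancel]))
    rwa [mul_inv_cancel_left] at this
  { ρ := f D.ρ, r := f D.r, a := f D.a, b := f D.b, g := f D.g, h := f D.h
    ρ5 := by rw [← map_pow, D.ρ5, map_one]
    r3 := by rw [← map_pow, D.r3, map_one]
    ρQ := fun h => D.ρQ (hmem h)
    rQ := fun h => D.rQ (hmem h)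
    aQ := fun h => D.aQ (hmem h)
    a2 := by rw [← map_mul]; exact Subgroup.mem_map_of_mem f D.a2
    inv := by simpa using Subgroup.mem_map_of_mem f D.inv
    b_def := by rw [D.b_def]; simp
    c_def := by simpa using Subgroup.mem_map_of_mem f D.c_def
    comm := by simpa using Subgroup.mem_map_of_mem f D.comm
    abQ := fun h => D.abQ (hmem (by rwa [map_mul]))
    simple := fun N hN hQN => by
      rcases D.simple (N.comap f) (hN.comap f) (fun q hq => hQN (Subgroup.mem_map_of_mem f hq)) with h | h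
      · left; rw [← h, Subgroup.map_comap_eq_self_of_surjective hf]
      · right; rw [← Subgroup.map_comap_eq_self_of_surjective hf N, h, Subgroup.map_top_of_surjective f hf] }

variable [Finite X] {Q : Subgroup X}

/-- an element outside `Q` centralising a normal subgroup centralised by `Q` makes it central -/
theorem Data.fix_all (D : Data Q) (W : Subgroup X) [hW : W.Normal] (hc : ∀ q ∈ Q, ∀ w ∈ W, q * w = w * q)
    {x : X} (hxQ : x ∉ Q) (hx : ∀ w ∈ W, x * w = w * x) : ∀ (y : X), ∀ w ∈ W, y * w = w * y := by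
  have h := D.simple (Subgroup.centralizer (W : Set X))
    Subgroup.normal_centralizer (fun q hq w hw => (hc q hq w hw).symm)
  rcases h with h | h
  · exact absurd (h.le (show x ∈ _ from fun w hw => (hx w hw).symm)) hxQ
  · intro y w hw
    exact ((h.ge (Subgroup.mem_top y)) w hw).symm

/-- coordinates of a small elementary normal subgroup moved by the element of order five -/
theorem Data.module_coords (D : Data Q) (W : Subgroup X) [hW : W.Normal]
    (hcW : ∀ v ∈ W, ∀ w ∈ W, v * w = w * v) (h2 : ∀ w ∈ W, w * w = 1)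
    {n : ℕ} (hn : n ≤ 4) (hcard : Nat.card W = 2 ^ n) (hcQ : ∀ q ∈ Q, ∀ w ∈ W, q * w = w * q)
    (hmove : ∃ w ∈ W, D.ρ * w * D.ρ⁻¹ ≠ w) :
    Nat.card W = 16 ∧ ∃ e : V → X, (∀ v, e v ∈ W) ∧ Function.Injective e ∧ (∀ w ∈ W, ∃ v, e v = w) ∧
      (∀ u v, e (u + v) = e u * e v) ∧ (∀ v, e (mR v) = D.ρ * e v * D.ρ⁻¹) ∧
      (∀ v, e (mA v) = D.a * e v * D.a⁻¹) ∧ ∀ v, D.ρ * e v * D.ρ⁻¹ = e v → v = 0 := by
  letI : CommGroup W := { (inferInstance : Group W) with mul_comm := fun x y => Subtype.ext (hcW x x.2 y y.2) }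
  let π : X →* MulAut W := MulAut.conjNormal
  have hπ : ∀ (x : X) (w : W), ((π x w : W) : X) = x * w * x⁻¹ := fun x w => MulAut.conjNormal_apply x w
  have hπQ : ∀ q ∈ Q, π q = 1 := fun q hq => MulEquiv.ext fun w => Subtype.ext (by
    rw [hπ, hcQ q hq w w.2, mul_inv_cancel_right]; rfl)
  obtain ⟨w₀, hw₀, hne⟩ := hmove
  obtain ⟨h16, hfix⟩ := free_of_ne (W := W) hn hcard (π D.ρ) (by rw [← map_pow, D.ρ5, map_one])
    ⟨⟨w₀, hw₀⟩, fun h => hne (by rw [← hπ D.ρ ⟨w₀, hw₀⟩, h])⟩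
  obtain ⟨e, he, hadd, hR, hA⟩ := coords (W := W) (fun w => Subtype.ext (h2 w w.2)) h16 (π D.ρ) (π D.a)
    (by rw [← map_pow, D.ρ5, map_one]) hfix
    (fun w => by rw [← MulAut.mul_apply, ← map_mul, hπQ _ D.a2]; rfl)
    (fun w => by
      have h := hπQ _ D.inv
      rw [map_mul, map_mul, map_mul, map_inv] at h
      have h' : π D.a * π D.ρ = (π D.ρ)⁻¹ * π D.a := mul_inv_eq_iff_eq_mul.mp (eq_inv_of_mul_eq_one_left h)
      rw [← MulAut.mul_apply, ← MulAut.mul_apply, mul_assoc, h', mul_inv_cancel_left])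
  refine ⟨h16, fun v => e v, fun v => (e v).2, Subtype.val_injective.comp he.1, fun w hw => ?_,
    fun u v => congrArg Subtype.val (hadd u v), fun v => ?_, fun v => ?_, fun v hv => ?_⟩
  · obtain ⟨v, hv⟩ := he.2 ⟨w, hw⟩
    exact ⟨v, congrArg Subtype.val hv⟩
  · show (e (mR v) : X) = _
    rw [hR, hπ]
  · show (e (mA v) : X) = _
    rw [hA, hπ]
  · have h1 : π D.ρ (e v) = e v := Subtype.ext ((hπ _ _).trans hv)
    have h0 : e 0 = 1 := by simpa using (left_eq_mul.mp ((congrArg e (add_zero (0 : V))).symm.trans (hadd 0 0)))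
    exact he.1 ((hfix _ h1).trans h0.symm)

/-- `Q / M` and the squaring data, for a central elementary subgroup `M` containing the squares -/
structure Lift (D : Data Q) (M : Subgroup X) where
  L : V → X
  mem : ∀ v, L v ∈ Q
  add : ∀ u v, (L (u + v))⁻¹ * (L u * L v) ∈ M
  zero : ∀ v, L v ∈ M → v = 0
  cover : ∀ q ∈ Q, ∃ v, (L v)⁻¹ * q ∈ M
  R : ∀ v, (L (mR v))⁻¹ * (D.ρ * L v * D.ρ⁻¹) ∈ M
  A : ∀ v, (L (mA v))⁻¹ * (D.a * L v * D.a⁻¹) ∈ M

theorem comm_mem_of_sq {M : Subgroup X} (hsq : ∀ q ∈ Q, q * q ∈ M) : ∀ p ∈ Q, ∀ q ∈ Q, p * q * p⁻¹ * q⁻¹ ∈ M := by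
  intro p hp q hq
  have h := mul_mem (mul_mem (hsq _ (mul_mem hp hq)) (hsq _ (mul_mem (mul_mem (inv_mem hq) (inv_mem hp)) hq)))
    (hsq _ (inv_mem hq))
  convert h using 1
  group

/-- the top section -/
theorem exists_lift (h4 : Cfsg.SectionalPRankLE 2 4 X) (hQn : Q.Normal) (hQp : IsPGroup 2 Q) (D : Data Q)
    (P : Subgroup X) [P.Normal] (hPQ : P ≤ Q) (hsq : ∀ q ∈ Q, q * q ∈ P)
    (hne : ∃ q ∈ Q, D.ρ * q * D.ρ⁻¹ * q⁻¹ ∉ P) :
    Nat.card Q = 16 * Nat.card P ∧ Nonempty (Lift D P) := by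
  classical
  obtain ⟨f, hf⟩ : ∃ f : X →* X ⧸ P, f = QuotientGroup.mk' P := ⟨_, rfl⟩
  have hfs : Function.Surjective f := hf ▸ QuotientGroup.mk'_surjective P
  have hk : ∀ x, f x = 1 ↔ x ∈ P := fun x => by rw [hf]; exact QuotientGroup.eq_one_iff x
  have hker : f.ker ≤ Q := fun x hx => hPQ ((hk x).mp hx)
  have h2 : ∀ w ∈ Q.map f, w * w = 1 := by
    rintro _ ⟨q, hq, rfl⟩
    rw [← map_mul, hk]; exact hsq q hq
  have hc : ∀ v ∈ Q.map f, ∀ w ∈ Q.map f, v * w = w * v := fun v hv w hw =>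
    congrArg Subtype.val (Sec62.sq_comm (G := Q.map f) (fun a => Subtype.ext (h2 a a.2)) ⟨v, hv⟩ ⟨w, hw⟩)
  haveI : (Q.map f).Normal := hQn.map f hfs
  haveI := Fact.mk Nat.prime_two
  obtain ⟨n, hn⟩ := (hQp.map f).exists_card_eq
  have hn4 : n ≤ 4 := by
    have h := Sec62.card_le_of_rank h4 Q P hsq
    rw [MonoidHom.range_comp, Subgroup.range_subtype, ← hf, hn] at h
    exact (Nat.pow_le_pow_iff_right (by norm_num)).mp h
  obtain ⟨q₀, hq₀, hne⟩ := hne
  obtain ⟨h16, e, hem, hinj, hsurj, hadd, hR, hA, -⟩ := (D.map f hfs hker).module_coords (Q.map f) hc h2 hn4 hn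
    (fun q hq w hw => hc q hq w hw) ⟨f q₀, Subgroup.mem_map_of_mem f hq₀, fun h => hne ((hk _).mp (by
      rw [map_mul, map_mul, map_mul, map_inv, map_inv]
      exact mul_inv_eq_one.mpr h))⟩
  have hpre : ∀ v, ∃ q ∈ Q, f q = e v := fun v => hem v
  choose L hL hLe using hpre
  refine ⟨?_, ⟨⟨L, hL, fun u v => ?_, fun v hv => ?_, fun q hq => ?_, fun v => ?_, fun v => ?_⟩⟩⟩
  · rw [← h16, hf]
    exact (Sec62.card_map_mk P Q hPQ).symm
  · rw [← hk, map_mul, map_inv, map_mul, hLe, hLe, hLe, hadd, inv_mul_cancel]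
  · refine hinj ?_
    rw [← hLe v, (hk _).mpr hv]
    simpa using (left_eq_mul.mp ((congrArg e (add_zero (0 : V))).symm.trans (hadd 0 0))).symm
  · obtain ⟨v, hv⟩ := hsurj _ (Subgroup.mem_map_of_mem f hq)
    exact ⟨v, by rw [← hk, map_mul, map_inv, hLe, hv, inv_mul_cancel]⟩
  · rw [← hk, map_mul, map_inv, map_mul, map_mul, map_inv, hLe, hLe, hR]
    exact inv_mul_cancel _
  · rw [← hk, map_mul, map_inv, map_mul, map_mul, map_inv, hLe, hLe, hA]
    exact inv_mul_cancel _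

end Cfsg.Agent.H40.AFiveRadical
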