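import Cfsg.Agent.H40.AFiveRadical.Sqr

/-!
The homocyclic radical of order 256 does not occur in sectional rank four.
-/

set_option autoImplicit false
set_option linter.style.haveILetI false
set_option linter.unusedSectionVars false

namespace Cfsg.Agent.H40.AFiveRadical

variable {X : Type*} [Group X] [Finite X] {Q M : Subgroup X} {D : Data Q}

/-- reduction modulo two -/
def red (x : W4) : V := fun i => ((x i).val : ZMod 2)

def pA (x : W4) : W4 := ![x 1, x 0, x 3, x 2]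

def pB (x : W4) : W4 := ![x 2, x 3, x 0, x 1]

def good (x : W4) : Prop := x 0 + x 1 + x 2 + x 3 = 0 ∧ 2 * (x 1 + x 3) = 0 ∧ 2 * (x 2 + x 3) = 0

instance : DecidablePred good := fun x => inferInstanceAs (Decidable (_ ∧ _ ∧ _))

theorem w4_basis : ∀ x : W4, x = (x 0).val • (![1, 0, 0, 0] : W4) + (x 1).val • (![0, 1, 0, 0] : W4) +
    (x 2).val • (![0, 0, 1, 0] : W4) + (x 3).val • (![0, 0, 0, 1] : W4) := by decide +kernel

theorem add_ext (φ ψ : W4 → X) (hφ : ∀ x y, φ (x + y) = φ x * φ y) (hψ : ∀ x y, ψ (x + y) = ψ x * ψ y)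
    (h0 : φ ![1, 0, 0, 0] = ψ ![1, 0, 0, 0]) (h1 : φ ![0, 1, 0, 0] = ψ ![0, 1, 0, 0])
    (h2 : φ ![0, 0, 1, 0] = ψ ![0, 0, 1, 0]) (h3 : φ ![0, 0, 0, 1] = ψ ![0, 0, 0, 1]) (x : W4) : φ x = ψ x := by
  have key : ∀ χ : W4 → X, (∀ x y, χ (x + y) = χ x * χ y) → ∀ (e : W4) (n : ℕ), χ (n • e) = χ e ^ n := by
    intro χ hχ e n
    induction n with
    | zero =>
      have h := hχ 0 0
      rw [add_zero] at h
      rw [zero_smul, pow_zero]
      exact left_eq_mul.mp h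
    | succ n ih => rw [succ_nsmul, hχ, ih, pow_succ]
  rw [w4_basis x, hφ, hφ, hφ, hψ, hψ, hψ, key φ hφ, key φ hφ, key φ hφ, key φ hφ, key ψ hψ, key ψ hψ, key ψ hψ,
    key ψ hψ, h0, h1, h2, h3]

/-- coordinates modulo four -/
theorem exists_coords [M.Normal] (hM : Cen Q M) (Lf : Lift D M) (hcQ : ∀ p ∈ Q, ∀ q ∈ Q, p * q = q * p)
    (hz : ∀ v, Lf.L v * Lf.L v = 1 → v = 0) (hs : ∀ m ∈ M, ∃ v, Lf.L v * Lf.L v = m)
    (u0 u1 u2 u3 : V) (hind : ∀ c : V, c 0 • u0 + c 1 • u1 + c 2 • u2 + c 3 • u3 = 0 → c = 0)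
    (y0 y1 y2 y3 : X) (hy0 : y0 ∈ Q) (hy1 : y1 ∈ Q) (hy2 : y2 ∈ Q) (hy3 : y3 ∈ Q)
    (h0 : (Lf.L u0)⁻¹ * y0 ∈ M) (h1 : (Lf.L u1)⁻¹ * y1 ∈ M) (h2 : (Lf.L u2)⁻¹ * y2 ∈ M)
    (h3 : (Lf.L u3)⁻¹ * y3 ∈ M) :
    ∃ E : W4 → X, (∀ x, E x ∈ Q) ∧ Function.Injective E ∧ (∀ q ∈ Q, ∃ x, E x = q) ∧
      (∀ x y, E (x + y) = E x * E y) ∧ E ![1, 0, 0, 0] = y0 ∧ E ![0, 1, 0, 0] = y1 ∧ E ![0, 0, 1, 0] = y2 ∧
      E ![0, 0, 0, 1] = y3 ∧
      ∀ x, (Lf.L (red x 0 • u0 + red x 1 • u1 + red x 2 • u2 + red x 3 • u3))⁻¹ * E x ∈ M := by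
  classical
  obtain ⟨E, hEdef⟩ : ∃ E : W4 → X, E = fun x => y0 ^ (x 0).val * y1 ^ (x 1).val * y2 ^ (x 2).val * y3 ^ (x 3).val :=
    ⟨_, rfl⟩
  have hEQ : ∀ x, E x ∈ Q := fun x => by
    rw [hEdef]
    exact mul_mem (mul_mem (mul_mem (pow_mem hy0 _) (pow_mem hy1 _)) (pow_mem hy2 _)) (pow_mem hy3 _)
  have h4 : ∀ y ∈ Q, y ^ 4 = 1 := fun y hy => by
    rw [show y ^ 4 = y * y * (y * y) by simp [pow_succ, mul_assoc]]
    exact hM.exp _ (hM.sq y hy)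
  have hpow : ∀ y ∈ Q, ∀ s t : ZMod 4, y ^ (s + t).val = y ^ s.val * y ^ t.val := fun y hy s t => by
    rw [ZMod.val_add, ← pow_add]
    conv_rhs => rw [← Nat.div_add_mod (s.val + t.val) 4, pow_add, pow_mul, h4 y hy, one_pow, one_mul]
  have hadd : ∀ x y, E (x + y) = E x * E y := fun x y => by
    letI : CommGroup Q := { (inferInstance : Group Q) with mul_comm := fun a b => Subtype.ext (hcQ a a.2 b b.2) }
    rw [hEdef]
    simp only [Pi.add_apply, hpow _ hy0, hpow _ hy1, hpow _ hy2, hpow _ hy3]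
    exact congrArg Subtype.val (comm4 (M := Q) (⟨y0, hy0⟩ ^ (x 0).val) (⟨y0, hy0⟩ ^ (y 0).val)
      (⟨y1, hy1⟩ ^ (x 1).val) (⟨y1, hy1⟩ ^ (y 1).val) (⟨y2, hy2⟩ ^ (x 2).val) (⟨y2, hy2⟩ ^ (y 2).val)
      (⟨y3, hy3⟩ ^ (x 3).val) (⟨y3, hy3⟩ ^ (y 3).val))
  obtain ⟨f, hfdef⟩ : ∃ f : X →* X ⧸ M, f = QuotientGroup.mk' M := ⟨_, rfl⟩
  have hf : ∀ a, f a = 1 ↔ a ∈ M := fun a => by rw [hfdef]; exact QuotientGroup.eq_one_iff a
  have hcg : ∀ {p q : X}, p⁻¹ * q ∈ M → f q = f p := fun {p q} h => by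
    rw [← hf, map_mul, map_inv, inv_mul_eq_one] at h
    exact h.symm
  have hfL : ∀ u v, f (Lf.L (u + v)) = f (Lf.L u) * f (Lf.L v) := fun u v => by
    rw [← map_mul]; exact (hcg (Lf.add u v)).symm
  have hfn : ∀ (v : V) (n : ℕ), f (Lf.L v) ^ n = f (Lf.L ((n : ZMod 2) • v)) := by
    intro v n
    induction n with
    | zero => rw [pow_zero, Nat.cast_zero, zero_smul, (hf _).mpr Lf.L_zero]
    | succ n ih => rw [pow_succ, ih, Nat.cast_succ, add_smul, one_smul, hfL]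
  have hred : ∀ x, (Lf.L (red x 0 • u0 + red x 1 • u1 + red x 2 • u2 + red x 3 • u3))⁻¹ * E x ∈ M := fun x => by
    rw [← hf, map_mul, map_inv, inv_mul_eq_one, hEdef]
    simp only [map_mul, map_pow, hcg h0, hcg h1, hcg h2, hcg h3, hfn, ← hfL]
    rfl
  have hEM : ∀ x, E x ∈ M → red x = 0 := fun x hx => by
    refine hind _ (Lf.zero _ ?_)
    have h := mul_mem hx (inv_mem (hred x))
    rwa [mul_inv_rev, inv_inv, mul_inv_cancel_left] at h
  have hinv : ∀ q ∈ Q, q * q = 1 → q ∈ M := fun q hq hqq => by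
    obtain ⟨v, hv⟩ := Lf.cover q hq
    have h := hz v (by rw [← Lf.congr hM hv, hqq])
    subst h
    have := mul_mem Lf.L_zero hv
    rwa [mul_inv_cancel_left] at this
  have hinj0 : ∀ x, E x = 1 → x = 0 := fun x hx => by
    have keyA : ∀ x : W4, red x = 0 → ∃ y : W4, x = y + y := by decide +kernel
    have keyB : ∀ x : W4, red x = 0 → x + x = 0 := by decide +kernel
    obtain ⟨y, rfl⟩ := keyA x (hEM x (hx ▸ one_mem M))
    exact keyB y (hEM y (hinv _ (hEQ y) (by rw [← hadd, hx])))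
  have hE0 : E 0 = 1 := by rw [hEdef]; simp
  have hinj : Function.Injective E := fun x y h => by
    have hneg : E (-y) = (E y)⁻¹ := eq_inv_of_mul_eq_one_left (by rw [← hadd, neg_add_cancel, hE0])
    exact add_neg_eq_zero.mp (hinj0 _ (by rw [hadd, hneg, h, mul_inv_cancel]))
  have hsurjV : ∀ v : V, ∃ c : V, c 0 • u0 + c 1 • u1 + c 2 • u2 + c 3 • u3 = v := by
    refine Finite.surjective_of_injective (f := fun c : V => c 0 • u0 + c 1 • u1 + c 2 • u2 + c 3 • u3)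
      fun c c' h => ?_
    refine CharTwo.add_eq_zero.mp (hind (c + c') ?_)
    simp only [Pi.add_apply, add_smul] at h ⊢
    calc _ = c 0 • u0 + c 1 • u1 + c 2 • u2 + c 3 • u3 + (c' 0 • u0 + c' 1 • u1 + c' 2 • u2 + c' 3 • u3) := by abel
      _ = 0 := by rw [h]; exact CharTwo.add_self_eq_zero _
  have hmod : ∀ q ∈ Q, ∃ x, (E x)⁻¹ * q ∈ M := fun q hq => by
    obtain ⟨v, hv⟩ := Lf.cover q hq
    obtain ⟨c, rfl⟩ := hsurjV v
    have keyC : ∀ c : V, red (fun i => ((c i).val : ZMod 4)) = c := by decide +kernel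
    refine ⟨fun i => ((c i).val : ZMod 4), ?_⟩
    have h := hred (fun i => ((c i).val : ZMod 4))
    rw [keyC] at h
    have := mul_mem (inv_mem h) hv
    rwa [mul_inv_rev, inv_inv, mul_assoc, mul_inv_cancel_left] at this
  refine ⟨E, hEQ, hinj, fun q hq => ?_, hadd, ?_, ?_, ?_, ?_, hred⟩
  · obtain ⟨x, hx⟩ := hmod q hq
    obtain ⟨v, hv⟩ := hs _ hx
    obtain ⟨y, hy⟩ := hmod _ (Lf.mem v)
    refine ⟨x + (y + y), ?_⟩
    rw [hadd, hadd, ← hM.sq_congr (hEQ y) hy, hv, mul_inv_cancel_left]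
  all_goals (rw [hEdef]; simp [ZMod.val_one_eq_one_mod])

theorem conj_mul (x p q : X) : x * (p * q) * x⁻¹ = x * p * x⁻¹ * (x * q * x⁻¹) := by group

/-- a regular orbit of the four-group gives a section of rank five -/
theorem free_false (h4 : Cfsg.SectionalPRankLE 2 4 X) [hQn : Q.Normal] [M.Normal] (hM : Cen Q M)
    (Lf : Lift D M) (hcQ : ∀ p ∈ Q, ∀ q ∈ Q, p * q = q * p) (hz : ∀ v, Lf.L v * Lf.L v = 1 → v = 0)
    (hs : ∀ m ∈ M, ∃ v, Lf.L v * Lf.L v = m) (π : X → V → V)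
    (hπ : ∀ x v, (Lf.L (π x v))⁻¹ * (x * Lf.L v * x⁻¹) ∈ M) (hadd : ∀ x u v, π x (u + v) = π x u + π x v)
    (hmul : ∀ x y v, π (x * y) v = π x (π y v)) (hQ1 : ∀ q ∈ Q, ∀ v, π q v = v)
    (a b : X) (haQ : a ∉ Q) (hbQ : b ∉ Q) (habQ : a * b ∉ Q) (ha2 : a * a ∈ Q) (hb2 : b * b ∈ Q)
    (hab : a * b * a⁻¹ * b⁻¹ ∈ Q) (v : V) (hN : v + π a v + π b v + π (a * b) v ≠ 0) : False := by
  classical
  have hba : ∀ w, π (b * a) w = π (a * b) w := fun w => by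
    conv_rhs => rw [show a * b = (a * b * a⁻¹ * b⁻¹) * (b * a) by group, hmul]
    rw [hQ1 _ hab]
  have hAA : ∀ w, π a (π a w) = w := fun w => by rw [← hmul]; exact hQ1 _ ha2 w
  have hBB : ∀ w, π b (π b w) = w := fun w => by rw [← hmul]; exact hQ1 _ hb2 w
  have hsm : ∀ x (s : ZMod 2) (w : V), π x (s • w) = s • π x w := fun x s w => by
    have h0 : π x 0 = 0 := by simpa using hadd x 0 0
    rcases (show ∀ s : ZMod 2, s = 0 ∨ s = 1 by decide) s with rfl | rfl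
    · rw [zero_smul, zero_smul, h0]
    · rw [one_smul, one_smul]
  -- the orbit is a basis
  have hind : ∀ c : V, c 0 • v + c 1 • π a v + c 2 • π b v + c 3 • π (a * b) v = 0 → c = 0 := by
    intro c hS
    by_contra hc
    have key : ∀ c : V, c ≠ 0 → ∃ d : V,
        d 0 * c 0 + d 1 * c 1 + d 2 * c 2 + d 3 * c 3 = 1 ∧ d 0 * c 1 + d 1 * c 0 + d 2 * c 3 + d 3 * c 2 = 1 ∧
        d 0 * c 2 + d 1 * c 3 + d 2 * c 0 + d 3 * c 1 = 1 ∧ d 0 * c 3 + d 1 * c 2 + d 2 * c 1 + d 3 * c 0 = 1 := by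
      decide +kernel
    obtain ⟨d, e0, e1, e2, e3⟩ := key c hc
    have hA : c 0 • π a v + c 1 • v + c 2 • π (a * b) v + c 3 • π b v = 0 := by
      have h := congrArg (π a) hS
      rw [hadd, hadd, hadd, hsm, hsm, hsm, hsm, hAA, show π a (0 : V) = 0 by simpa using hadd a 0 0,
        ← hmul a b, hmul a b v, hAA, ← hmul a b] at h
      exact h
    have hB : c 0 • π b v + c 1 • π (a * b) v + c 2 • v + c 3 • π a v = 0 := by
      have h := congrArg (π b) hS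
      rw [hadd, hadd, hadd, hsm, hsm, hsm, hsm, hBB, show π b (0 : V) = 0 by simpa using hadd b 0 0,
        ← hba v, hmul b a v, hBB] at h
      rw [← hba v, hmul b a v]
      exact h
    have hC : c 0 • π (a * b) v + c 1 • π b v + c 2 • π a v + c 3 • v = 0 := by
      have h := congrArg (π a) hB
      rw [hadd, hadd, hadd, hsm, hsm, hsm, hsm, hAA, show π a (0 : V) = 0 by simpa using hadd a 0 0,
        ← hmul a b, hmul a b v, hAA, ← hmul a b] at h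
      exact h
    refine hN ?_
    have : v + π a v + π b v + π (a * b) v =
        d 0 • (c 0 • v + c 1 • π a v + c 2 • π b v + c 3 • π (a * b) v) +
        d 1 • (c 0 • π a v + c 1 • v + c 2 • π (a * b) v + c 3 • π b v) +
        d 2 • (c 0 • π b v + c 1 • π (a * b) v + c 2 • v + c 3 • π a v) +
        d 3 • (c 0 • π (a * b) v + c 1 • π b v + c 2 • π a v + c 3 • v) := by
      funext i
      simp only [Pi.add_apply, Pi.smul_apply, smul_eq_mul]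
      linear_combination (-(v i)) * e0 - (π a v i) * e1 - (π b v i) * e2 - (π (a * b) v i) * e3
    rw [this, hS, hA, hB, hC]
    simp
  obtain ⟨y, hy⟩ : ∃ y, y = Lf.L v := ⟨_, rfl⟩
  have hyQ : y ∈ Q := hy ▸ Lf.mem v
  have hQc : ∀ (x : X), ∀ q ∈ Q, x * q * x⁻¹ ∈ Q := fun x q hq => hQn.conj_mem q hq x
  have hQfix : ∀ k ∈ Q, ∀ q ∈ Q, k * q * k⁻¹ = q := fun k hk q hq => by rw [hcQ k hk q hq, mul_inv_cancel_right]
  obtain ⟨E, hEQ, hinj, hsurj, hEadd, hE0, hE1, hE2, hE3, -⟩ := exists_coords hM Lf hcQ hz hs v (π a v) (π b v)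
    (π (a * b) v) hind y (a * y * a⁻¹) (b * y * b⁻¹) (a * b * y * (a * b)⁻¹) hyQ (hQc _ _ hyQ) (hQc _ _ hyQ)
    (hQc _ _ hyQ) (by rw [hy, inv_mul_cancel]; exact one_mem _) (hy ▸ hπ a v) (hy ▸ hπ b v) (hy ▸ hπ _ v)
  have hEz : E 0 = 1 := by simpa using (left_eq_mul.mp ((congrArg E (add_zero (0 : W4))).symm.trans (hEadd 0 0)))
  have hEneg : ∀ x, E (-x) = (E x)⁻¹ := fun x => eq_inv_of_mul_eq_one_left (by rw [← hEadd, neg_add_cancel, hEz])
  have ca : ∀ x, a * E x * a⁻¹ = E (pA x) := add_ext _ _ (fun x x' => by rw [hEadd, conj_mul])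
    (fun x x' => by rw [← hEadd]; congr 1; funext i; fin_cases i <;> rfl)
    (by rw [hE0]; exact hE1.symm)
    (by
      rw [hE1, show pA ![0, 1, 0, 0] = ![1, 0, 0, 0] by decide, hE0,
        show a * (a * y * a⁻¹) * a⁻¹ = a * a * y * (a * a)⁻¹ by group, hQfix _ ha2 _ hyQ])
    (by rw [hE2, show pA ![0, 0, 1, 0] = ![0, 0, 0, 1] by decide, hE3]; group)
    (by
      rw [hE3, show pA ![0, 0, 0, 1] = ![0, 0, 1, 0] by decide, hE2,
        show a * (a * b * y * (a * b)⁻¹) * a⁻¹ = a * a * (b * y * b⁻¹) * (a * a)⁻¹ by group,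
        hQfix _ ha2 _ (hQc _ _ hyQ)])
  have hswap : ∀ w ∈ Q, b * a * w * (b * a)⁻¹ = a * b * w * (a * b)⁻¹ := fun w hw => by
    rw [show a * b * w * (a * b)⁻¹ = (a * b * a⁻¹ * b⁻¹) * (b * a * w * (b * a)⁻¹) * (a * b * a⁻¹ * b⁻¹)⁻¹ by group,
      hQfix _ hab _ (hQc _ _ hw)]
  have cb : ∀ x, b * E x * b⁻¹ = E (pB x) := add_ext _ _ (fun x x' => by rw [hEadd, conj_mul])
    (fun x x' => by rw [← hEadd]; congr 1; funext i; fin_cases i <;> rfl)
    (by rw [hE0]; exact hE2.symm)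
    (by
      rw [hE1, show pB ![0, 1, 0, 0] = ![0, 0, 0, 1] by decide, hE3, ← hswap y hyQ]
      group)
    (by
      rw [hE2, show pB ![0, 0, 1, 0] = ![1, 0, 0, 0] by decide, hE0,
        show b * (b * y * b⁻¹) * b⁻¹ = b * b * y * (b * b)⁻¹ by group, hQfix _ hb2 _ hyQ])
    (by
      rw [hE3, show pB ![0, 0, 0, 1] = ![0, 1, 0, 0] by decide, hE1, ← hswap y hyQ,
        show b * (b * a * y * (b * a)⁻¹) * b⁻¹ = b * b * (a * y * a⁻¹) * (b * b)⁻¹ by group,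
        hQfix _ hb2 _ (hQc _ _ hyQ)])
  -- involutions inducing the same permutations
  have adjust : ∀ (s : X) (p : W4 → W4) (w : W4 → W4), s * s ∈ Q → (∀ x, s * E x * s⁻¹ = E (p x)) →
      (∀ x, p x = x → x - p (w x) - w x = 0) →
      ∃ k ∈ Q, s * k * (s * k) = 1 ∧ ∀ x, s * k * E x * (s * k)⁻¹ = E (p x) := by
    intro s p w hs2 hp hw
    obtain ⟨x, hx⟩ := hsurj _ hs2
    have hfix : p x = x := hinj (by rw [← hp, hx]; group)
    refine ⟨E (-(w x)), hEQ _, ?_, fun u => ?_⟩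
    · rw [show s * E (-(w x)) * (s * E (-(w x))) = s * E (-(w x)) * s⁻¹ * (s * s) * E (-(w x)) by group, ← hx,
        hEneg, show s * (E (w x))⁻¹ * s⁻¹ = (s * E (w x) * s⁻¹)⁻¹ by group, hp, ← hEneg, ← hEneg, ← hEadd, ← hEadd,
        ← hEz]
      congr 1
      rw [← hw x hfix]
      abel
    · rw [show s * E (-(w x)) * E u * (s * E (-(w x)))⁻¹ = s * (E (-(w x)) * E u * (E (-(w x)))⁻¹) * s⁻¹ by group,
        hQfix _ (hEQ _) _ (hEQ _), hp]
  obtain ⟨k, hk, ha'2, ca'⟩ := adjust a pA (fun x => ![x 0, 0, x 2, 0]) ha2 ca (by decide +kernel)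
  obtain ⟨l, hl, hb'2, cb'⟩ := adjust b pB (fun x => ![x 0, x 1, 0, 0]) hb2 cb (by decide +kernel)
  obtain ⟨a', hadef⟩ : ∃ a', a' = a * k := ⟨_, rfl⟩
  obtain ⟨b', hbdef⟩ : ∃ b', b' = b * l := ⟨_, rfl⟩
  rw [← hadef] at ha'2 ca'
  rw [← hbdef] at hb'2 cb'
  obtain ⟨f, hfdef⟩ : ∃ f : X →* X ⧸ Q, f = QuotientGroup.mk' Q := ⟨_, rfl⟩
  have hf : ∀ a, f a = 1 ↔ a ∈ Q := fun a => by rw [hfdef]; exact QuotientGroup.eq_one_iff a
  have hfa : f a' = f a := by rw [hadef, map_mul, (hf k).mpr hk, mul_one]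
  have hfb : f b' = f b := by rw [hbdef, map_mul, (hf l).mpr hl, mul_one]
  have hainv : a'⁻¹ = a' := inv_eq_of_mul_eq_one_right ha'2
  have hbinv : b'⁻¹ = b' := inv_eq_of_mul_eq_one_right hb'2
  -- their commutator
  have hcQ' : a' * b' * a'⁻¹ * b'⁻¹ ∈ Q := by
    rw [← hf, map_mul, map_mul, map_mul, map_inv, map_inv, hfa, hfb]
    simp only [← map_mul, ← map_inv]
    exact (hf _).mpr hab
  obtain ⟨t, ht⟩ := hsurj _ hcQ'
  have hta : pA t = -t := hinj (by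
    rw [← ca', hEneg, ht, hainv, hbinv]
    rw [show a' * (a' * b' * a' * b') * a' = (a' * a') * b' * a' * b' * a' by group, ha'2, one_mul,
      mul_inv_rev, mul_inv_rev, mul_inv_rev, hainv, hbinv]
    group)
  have htb : pB t = -t := hinj (by
    rw [← cb', hEneg, ht, hainv, hbinv]
    rw [show b' * (a' * b' * a' * b') * b' = b' * a' * b' * a' * (b' * b') by group, hb'2, mul_one,
      mul_inv_rev, mul_inv_rev, mul_inv_rev, hainv, hbinv]
    group)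
  have htg : good t := (show ∀ t : W4, pA t = -t → pB t = -t → good t by decide +kernel) t hta htb
  let K : Subgroup X :=
    { carrier := {z | ∃ x, good x ∧ E x = z}
      one_mem' := ⟨0, by decide +kernel, hEz⟩
      mul_mem' := by
        rintro _ _ ⟨x, hx, rfl⟩ ⟨x', hx', rfl⟩
        refine ⟨x + x', ?_, hEadd x x'⟩
        have key : ∀ x : W4, good x → ∀ x' : W4, good x' → good (x + x') := by decide +kernel
        exact key x hx x' hx'
      inv_mem' := by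
        rintro _ ⟨x, hx, rfl⟩
        exact ⟨-x, (show ∀ x : W4, good x → good (-x) by decide +kernel) x hx, hEneg x⟩ }
  have hK : ∀ x, E x ∈ K ↔ good x := fun x => ⟨fun ⟨x', hx', he⟩ => hinj he ▸ hx', fun hx => ⟨x, hx, rfl⟩⟩
  have hKQ : K ≤ Q := fun z ⟨x, _, he⟩ => he ▸ hEQ x
  obtain ⟨s2, s3, s4, hs2, hs3, hs4⟩ : ∃ s2 s3 s4 : W4, s2 = ![2, 0, 0, 0] ∧ s3 = ![3, 1, 0, 0] ∧ s4 = ![3, 0, 1, 0] :=
    ⟨_, _, _, rfl, rfl, rfl⟩
  have hcomE : ∀ x x', E x * E x' * (E x)⁻¹ * (E x')⁻¹ ∈ K := fun x x' => by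
    rw [hcQ _ (hEQ x) _ (hEQ x')]; simp
  have hside : ∀ {p q : X}, p * q * p⁻¹ * q⁻¹ ∈ K → q * p * q⁻¹ * p⁻¹ ∈ K := fun {p q} h => by
    refine cast (congrArg (· ∈ K) ?_) (inv_mem h)
    group
  have haE : ∀ x, good (pA x - x) → a' * E x * a'⁻¹ * (E x)⁻¹ ∈ K := fun x hx => by
    rw [ca', ← hEneg, ← hEadd, hK, ← sub_eq_add_neg]; exact hx
  have hbE : ∀ x, good (pB x - x) → b' * E x * b'⁻¹ * (E x)⁻¹ ∈ K := fun x hx => by
    rw [cb', ← hEneg, ← hEadd, hK, ← sub_eq_add_neg]; exact hx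
  have hcK : a' * b' * a'⁻¹ * b'⁻¹ ∈ K := ht ▸ (hK t).mpr htg
  have a2' := haE s2 (by rw [hs2]; decide +kernel)
  have a3' := haE s3 (by rw [hs3]; decide +kernel)
  have a4' := haE s4 (by rw [hs4]; decide +kernel)
  have b2' := hbE s2 (by rw [hs2]; decide +kernel)
  have b3' := hbE s3 (by rw [hs3]; decide +kernel)
  have b4' := hbE s4 (by rw [hs4]; decide +kernel)
  have hEK : ∀ x, ∀ z ∈ K, E x * z * (E x)⁻¹ ∈ K := fun x z hz => by rw [hQfix _ (hEQ x) _ (hKQ hz)]; exact hz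
  have hsqK : ∀ x, good (x + x) → E x * E x ∈ K := fun x hx => by rw [← hEadd, hK]; exact hx
  refine no_five h4 K ![a', b', E s2, E s3, E s4] (fun i => ?_) (fun i => ?_) (fun i j => ?_) fun e he => ?_
  · fin_cases i
    · rintro _ ⟨x, hx, rfl⟩
      show a' * E x * a'⁻¹ ∈ K
      rw [ca', hK]
      exact (show ∀ x : W4, good x → good (pA x) by decide +kernel) x hx
    · rintro _ ⟨x, hx, rfl⟩
      show b' * E x * b'⁻¹ ∈ K
      rw [cb', hK]
      exact (show ∀ x : W4, good x → good (pB x) by decide +kernel) x hx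
    all_goals exact hEK _
  · fin_cases i
    · show a' * a' ∈ K
      rw [ha'2]; exact one_mem _
    · show b' * b' ∈ K
      rw [hb'2]; exact one_mem _
    · exact hsqK s2 (by rw [hs2]; decide +kernel)
    · exact hsqK s3 (by rw [hs3]; decide +kernel)
    · exact hsqK s4 (by rw [hs4]; decide +kernel)
  · fin_cases i <;> fin_cases j <;> first
      | exact hcK | exact hside hcK | exact hcomE _ _ | exact a2' | exact a3' | exact a4' | exact b2' | exact b3'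
      | exact b4' | exact hside a2' | exact hside a3' | exact hside a4' | exact hside b2' | exact hside b3'
      | exact hside b4' | simp
  · replace he : a' ^ (e 0).val * b' ^ (e 1).val * E s2 ^ (e 2).val * E s3 ^ (e 3).val * E s4 ^ (e 4).val ∈ K := he
    obtain ⟨h0, h1⟩ : e 0 = 0 ∧ e 1 = 0 := by
      have h := (hf _).mpr (hKQ he)
      simp only [map_mul, map_pow, hfa, hfb, (hf _).mpr (hEQ _), one_pow, mul_one] at h
      have cases2 : ∀ i : Fin 2, i = 0 ∨ i = 1 := by decide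
      rcases cases2 (e 0) with h0 | h0 <;> rcases cases2 (e 1) with h1 | h1 <;> rw [h0, h1] at h ⊢ <;>
        simp only [Fin.val_zero, Fin.val_one, pow_zero, pow_one, one_mul, mul_one, ← map_mul, hf] at h
      · exact ⟨rfl, rfl⟩
      · exact absurd h hbQ
      · exact absurd h haQ
      · exact absurd h habQ
    have hpowE : ∀ (x : W4) (n : Fin 2), E x ^ n.val = E (n.val • x) := fun x n => by fin_cases n <;> simp [hEz]
    rw [h0, h1, hpowE, hpowE, hpowE, Fin.val_zero, pow_zero, pow_zero, one_mul, one_mul, ← hEadd, ← hEadd, hK,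
      hs2, hs3, hs4] at he
    have key : ∀ i j k : Fin 2, good (i.val • (![2, 0, 0, 0] : W4) + j.val • (![3, 1, 0, 0] : W4) +
        k.val • (![3, 0, 1, 0] : W4)) → i = 0 ∧ j = 0 ∧ k = 0 := by decide +kernel
    obtain ⟨h2, h3, h4⟩ := key _ _ _ he
    intro i
    fin_cases i <;> assumption

set_option maxHeartbeats 4000000 in
set_option synthInstance.maxSize 2000 in
set_option synthInstance.maxHeartbeats 200000 in
/-- the four-group of transvections with a common centre -/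
theorem transvection_pair : ∀ p : V, mA p = p → ∀ q : V, mA q = q →
    (∀ v : V, v + v 1 • p + (v 2 + v 3) • q = v → mA v = v) →
    (∀ v : V, mA (v + v 1 • p + (v 2 + v 3) • q) = v → mA v = v) →
    ∃ u1 u2 : V, (∀ c : V, c 0 • u1 + c 1 • u2 + c 2 • (mA u1 + u1) + c 3 • (mA u2 + u2) = 0 → c = 0) ∧
      u1 + u1 1 • p + (u1 2 + u1 3) • q = u1 + (mA u2 + u2) ∧
      u2 + u2 1 • p + (u2 2 + u2 3) • q = u2 + ((mA u1 + u1) + (mA u2 + u2)) := by
  decide +kernel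

theorem natural_case [hQn : Q.Normal] [M.Normal] (hM : Cen Q M) (Lf : Lift D M)
    (hcQ : ∀ p ∈ Q, ∀ q ∈ Q, p * q = q * p) (hz : ∀ v, Lf.L v * Lf.L v = 1 → v = 0)
    (hs : ∀ m ∈ M, ∃ v, Lf.L v * Lf.L v = m) (π : X → V → V)
    (hπ : ∀ x v, (Lf.L (π x v))⁻¹ * (x * Lf.L v * x⁻¹) ∈ M) (hadd : ∀ x u v, π x (u + v) = π x u + π x v)
    (hmul : ∀ x y v, π (x * y) v = π x (π y v)) (hQ1 : ∀ q ∈ Q, ∀ v, π q v = v)
    (hA : ∀ v, π D.a v = mA v) (hN : ∀ v, mA (π D.b v + v) = π D.b v + v) : False := by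
  classical
  -- conjugates of the involution fix the same points
  have hone : ∀ v, π 1 v = v := hQ1 1 (one_mem Q)
  have conjfix : ∀ (g : X) (B : V → V), (∀ v, π g (mA (π g⁻¹ v)) = B v) → (∀ v, mA (B v + v) = B v + v) →
      ∀ v, B v = v ↔ mA v = v := by
    intro g B hB hin
    have hinv : ∀ v, π g⁻¹ (π g v) = v := fun v => by rw [← hmul, inv_mul_cancel, hone]
    have hinv' : ∀ v, π g (π g⁻¹ v) = v := fun v => by rw [← hmul, mul_inv_cancel, hone]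
    have hsub : ∀ w, mA w = w → mA (π g w) = π g w := fun w hw => by
      obtain ⟨u, hu⟩ := (A_image w).mpr hw
      have h := hin (π g u)
      rwa [← hB, hinv, ← hadd, hu] at h
    intro v
    constructor
    · intro hv
      have h1 : mA (π g⁻¹ v) = π g⁻¹ v := by
        conv_rhs => rw [← hv, ← hB, hinv]
      have h2 := hsub _ h1
      rwa [hinv'] at h2
    · intro hv
      have hinj : Function.Injective (fun w : {w : V // mA w = w} => (⟨π g w, hsub w w.2⟩ : {w : V // mA w = w})) :=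
        fun w w' h => Subtype.ext (by
          have h' : π g w = π g w' := congrArg Subtype.val h
          rw [← hinv w, h', hinv])
      obtain ⟨w, hw⟩ := Finite.surjective_of_injective hinj ⟨v, hv⟩
      have hw' : π g w = v := congrArg Subtype.val hw
      rw [← hB, ← hw', hinv, w.2]
  have hB : ∀ v, π D.g (mA (π D.g⁻¹ v)) = π D.b v := fun v => by rw [D.b_def, hmul, hmul, hA]
  have hfixB := conjfix D.g (π D.b) hB hN
  have hfixC := conjfix D.h (fun v => mA (π D.b v))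
    (fun v => by
      rw [← hA, ← hA, ← hmul, ← hmul, ← hmul]
      conv_rhs => rw [show D.a * D.b = (D.a * D.b * (D.h * D.a * D.h⁻¹)⁻¹) * (D.h * D.a * D.h⁻¹) by group, hmul]
      rw [hQ1 _ D.c_def])
    (fun v => by
      have hAadd : ∀ u w, mA (u + w) = mA u + mA w := fun u w => by rw [← hA, ← hA, ← hA, hadd]
      have hAA : ∀ w, mA (mA w) = w := fun w => by rw [← hA, ← hA, ← hmul]; exact hQ1 _ D.a2 w
      have h := hN v
      rw [hAadd] at h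
      have h' : mA (π D.b v) = π D.b v + v + mA v := CharTwo.add_eq_iff_eq_add.mp h
      rw [hAadd, hAA]
      rw [h']
      calc π D.b v + mA v = π D.b v + mA v + (v + v) := by rw [CharTwo.add_self_eq_zero, add_zero]
        _ = π D.b v + v + mA v + v := by abel)
  obtain ⟨p, hp⟩ : ∃ p, p = π D.b ![0, 1, 0, 0] + ![0, 1, 0, 0] := ⟨_, rfl⟩
  obtain ⟨q, hq⟩ : ∃ q, q = π D.b ![0, 0, 1, 0] + ![0, 0, 1, 0] := ⟨_, rfl⟩
  have hsm : ∀ x (s : ZMod 2) (w : V), π x (s • w) = s • π x w := fun x s w => by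
    have h0 : π x 0 = 0 := by simpa using hadd x 0 0
    rcases (show ∀ s : ZMod 2, s = 0 ∨ s = 1 by decide) s with rfl | rfl
    · rw [zero_smul, zero_smul, h0]
    · rw [one_smul, one_smul]
  have hlin : ∀ v, π D.b v = v + v 1 • p + (v 2 + v 3) • q := fun v => by
    have hb : ∀ v : V, v = v 0 • ![1, 0, 0, 0] + v 1 • ![0, 1, 0, 0] + (v 2 + v 3) • ![0, 0, 1, 0] +
        v 3 • ![0, 0, 1, 1] := by decide +kernel
    conv_lhs => rw [hb v]
    rw [hadd, hadd, hadd, hsm, hsm, hsm, hsm, (hfixB ![1, 0, 0, 0]).mpr (by decide +kernel),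
      (hfixB ![0, 0, 1, 1]).mpr (by decide +kernel),
      show π D.b ![0, 1, 0, 0] = p + ![0, 1, 0, 0] by rw [hp, add_assoc, CharTwo.add_self_eq_zero, add_zero],
      show π D.b ![0, 0, 1, 0] = q + ![0, 0, 1, 0] by rw [hq, add_assoc, CharTwo.add_self_eq_zero, add_zero]]
    conv_rhs => rw [hb v]
    simp only [smul_add]
    have e1 : ∀ v : V, v 1 = (v 0 • ![1, 0, 0, 0] + v 1 • ![0, 1, 0, 0] + (v 2 + v 3) • ![0, 0, 1, 0] +
        v 3 • ![0, 0, 1, 1] : V) 1 ∧ v 2 + v 3 = (v 0 • ![1, 0, 0, 0] + v 1 • ![0, 1, 0, 0] +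
        (v 2 + v 3) • ![0, 0, 1, 0] + v 3 • ![0, 0, 1, 1] : V) 2 + (v 0 • ![1, 0, 0, 0] + v 1 • ![0, 1, 0, 0] +
        (v 2 + v 3) • ![0, 0, 1, 0] + v 3 • ![0, 0, 1, 1] : V) 3 := by decide +kernel
    rw [← (e1 v).1, ← (e1 v).2]
    abel
  obtain ⟨u1, u2, hind, hu1, hu2⟩ := transvection_pair p (hp ▸ hN _) q (hq ▸ hN _)
    (fun v hv => (hfixB v).mp (by rw [hlin, hv])) (fun v hv => (hfixC v).mp (by rw [hlin, hv]))
  rw [← hlin] at hu1 hu2
  obtain ⟨y1, hy1⟩ : ∃ y, y = Lf.L u1 := ⟨_, rfl⟩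
  obtain ⟨y2, hy2⟩ : ∃ y, y = Lf.L u2 := ⟨_, rfl⟩
  have hy1Q : y1 ∈ Q := hy1 ▸ Lf.mem u1
  have hy2Q : y2 ∈ Q := hy2 ▸ Lf.mem u2
  have hQc : ∀ (x : X), ∀ q ∈ Q, x * q * x⁻¹ ∈ Q := fun x q hq => hQn.conj_mem q hq x
  have hQfix : ∀ k ∈ Q, ∀ q ∈ Q, k * q * k⁻¹ = q := fun k hk q hq => by rw [hcQ k hk q hq, mul_inv_cancel_right]
  obtain ⟨f, hfdef⟩ : ∃ f : X →* X ⧸ M, f = QuotientGroup.mk' M := ⟨_, rfl⟩
  have hf : ∀ a, f a = 1 ↔ a ∈ M := fun a => by rw [hfdef]; exact QuotientGroup.eq_one_iff a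
  have hzmem : ∀ u, (Lf.L (mA u + u))⁻¹ * (D.a * Lf.L u * D.a⁻¹ * (Lf.L u)⁻¹) ∈ M := fun u => by
    have h1 := (hf _).mpr (Lf.add (mA u) u)
    have h2 := (hf _).mpr (Lf.A u)
    have h3 := (hf _).mpr (hM.sq _ (Lf.mem u))
    simp only [map_mul, map_inv, inv_mul_eq_one] at h1 h2
    rw [map_mul] at h3
    rw [← hf]
    simp only [map_mul, map_inv] at *
    rw [inv_mul_eq_one, h1, h2, inv_eq_of_mul_eq_one_right h3]
  obtain ⟨E, hEQ, hinj, hsurj, hEadd, hE0, hE1, hE2, hE3, hred⟩ := exists_coords hM Lf hcQ hz hs u1 u2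
    (mA u1 + u1) (mA u2 + u2) hind y1 y2 (D.a * y1 * D.a⁻¹ * y1⁻¹) (D.a * y2 * D.a⁻¹ * y2⁻¹) hy1Q hy2Q
    (mul_mem (hQc _ _ hy1Q) (inv_mem hy1Q)) (mul_mem (hQc _ _ hy2Q) (inv_mem hy2Q))
    (by rw [hy1, inv_mul_cancel]; exact one_mem _) (by rw [hy2, inv_mul_cancel]; exact one_mem _)
    (hy1 ▸ hzmem u1) (hy2 ▸ hzmem u2)
  have hEz : E 0 = 1 := by simpa using (left_eq_mul.mp ((congrArg E (add_zero (0 : W4))).symm.trans (hEadd 0 0)))
  have hEneg : ∀ x, E (-x) = (E x)⁻¹ := fun x => eq_inv_of_mul_eq_one_left (by rw [← hEadd, neg_add_cancel, hEz])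
  have inv_lem : ∀ y ∈ Q, D.a * (D.a * y * D.a⁻¹ * y⁻¹) * D.a⁻¹ = (D.a * y * D.a⁻¹ * y⁻¹)⁻¹ := fun y hy => by
    calc D.a * (D.a * y * D.a⁻¹ * y⁻¹) * D.a⁻¹ = (D.a * D.a) * y * (D.a * D.a)⁻¹ * (D.a * y⁻¹ * D.a⁻¹) := by group
      _ = y * (D.a * y⁻¹ * D.a⁻¹) := by rw [hQfix _ D.a2 y hy]
      _ = _ := by group
  have fix_lem : ∀ y ∈ Q, D.a * y * D.a⁻¹ = y * (D.a * y * D.a⁻¹ * y⁻¹) := fun y hy => by
    rw [hcQ y hy _ (mul_mem (hQc _ _ hy) (inv_mem hy)), inv_mul_cancel_right]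
  have ca : ∀ x, D.a * E x * D.a⁻¹ = E (mN x) := add_ext _ _ (fun x x' => by rw [hEadd, conj_mul])
    (fun x x' => by rw [← hEadd]; congr 1; funext i; fin_cases i <;> simp [mN] <;> abel)
    (by
      rw [show mN ![1, 0, 0, 0] = (![1, 0, 0, 0] : W4) + ![0, 0, 1, 0] by decide, hEadd, hE0, hE2]
      exact fix_lem y1 hy1Q)
    (by
      rw [show mN ![0, 1, 0, 0] = (![0, 1, 0, 0] : W4) + ![0, 0, 0, 1] by decide, hEadd, hE1, hE3]
      exact fix_lem y2 hy2Q)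
    (by
      rw [show mN ![0, 0, 1, 0] = -(![0, 0, 1, 0] : W4) by decide, hEneg, hE2]
      exact inv_lem y1 hy1Q)
    (by
      rw [show mN ![0, 0, 0, 1] = -(![0, 0, 0, 1] : W4) by decide, hEneg, hE3]
      exact inv_lem y2 hy2Q)
  -- the image of the second involution
  have hcol : ∀ (u w : V) (c : V), (w = c 0 • u1 + c 1 • u2 + c 2 • (mA u1 + u1) + c 3 • (mA u2 + u2)) →
      π D.b u = w → ∃ m, E m = D.b * Lf.L u * D.b⁻¹ ∧ red m = c := by
    intro u w c hw hu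
    obtain ⟨m, hm⟩ := hsurj _ (hQc D.b _ (Lf.mem u))
    refine ⟨m, hm, ?_⟩
    have h := Lf.sub_mem hM (hred m) (p := E m) (v := π D.b u) (hm ▸ hπ D.b u)
    rw [hu, hw] at h
    refine CharTwo.add_eq_zero.mp (hind (red m + c) ?_)
    simp only [Pi.add_apply, add_smul]
    calc _ = red m 0 • u1 + red m 1 • u2 + red m 2 • (mA u1 + u1) + red m 3 • (mA u2 + u2) +
          (c 0 • u1 + c 1 • u2 + c 2 • (mA u1 + u1) + c 3 • (mA u2 + u2)) := by abel
      _ = 0 := by rw [h]; exact CharTwo.add_self_eq_zero _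
  obtain ⟨m1, hm1, hr1⟩ := hcol u1 _ ![1, 0, 0, 1] (by simp) hu1
  obtain ⟨m2, hm2, hr2⟩ := hcol u2 _ ![0, 1, 1, 1] (by simp [add_assoc]) hu2
  rw [← hy1] at hm1
  rw [← hy2] at hm2
  have third : ∀ y ∈ Q, ∀ m, E m = D.b * y * D.b⁻¹ →
      D.b * (D.a * y * D.a⁻¹ * y⁻¹) * D.b⁻¹ = E (mN m - m) := by
    intro y hy m hm
    rw [sub_eq_add_neg, hEadd, hEneg, ← ca, hm]
    calc D.b * (D.a * y * D.a⁻¹ * y⁻¹) * D.b⁻¹
        = (D.a * D.b * D.a⁻¹ * D.b⁻¹)⁻¹ * (D.a * (D.b * y * D.b⁻¹) * D.a⁻¹) * (D.a * D.b * D.a⁻¹ * D.b⁻¹) *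
          (D.b * y * D.b⁻¹)⁻¹ := by group
      _ = _ := by
          conv_lhs => rw [show ∀ k x : X, k⁻¹ * x * k = k⁻¹ * x * k⁻¹⁻¹ from fun k x => by rw [inv_inv],
            hQfix _ (inv_mem D.comm) _ (hQc _ _ (hQc _ _ hy))]
  have cb : ∀ x, D.b * E x * D.b⁻¹ = E (natB m1 m2 x) := add_ext _ _ (fun x x' => by rw [hEadd, conj_mul])
    (fun x x' => by rw [← hEadd]; congr 1; simp only [natB, col4, Pi.add_apply, add_smul]; abel)
    (by rw [hE0, show natB m1 m2 ![1, 0, 0, 0] = m1 by simp [natB, col4], hm1])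
    (by rw [hE1, show natB m1 m2 ![0, 1, 0, 0] = m2 by simp [natB, col4], hm2])
    (by rw [hE2, show natB m1 m2 ![0, 0, 1, 0] = mN m1 - m1 by simp [natB, col4]]; exact third y1 hy1Q m1 hm1)
    (by rw [hE3, show natB m1 m2 ![0, 0, 0, 1] = mN m2 - m2 by simp [natB, col4]]; exact third y2 hy2Q m2 hm2)
  have hb2 : D.b * D.b ∈ Q := by
    rw [D.b_def, show D.g * D.a * D.g⁻¹ * (D.g * D.a * D.g⁻¹) = D.g * (D.a * D.a) * D.g⁻¹ by group]
    exact hQc _ _ D.a2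
  have htwo : ∀ x, natB m1 m2 (natB m1 m2 x) = x := fun x => hinj (by
    rw [← cb, ← cb, show D.b * (D.b * E x * D.b⁻¹) * D.b⁻¹ = D.b * D.b * E x * (D.b * D.b)⁻¹ by group,
      hQfix _ hb2 _ (hEQ x)])
  have k1 : ∀ m : W4, red m = ![1, 0, 0, 1] → ∃ a b c d : Fin 2, m =
      ![1 + 2 * (a.val : ZMod 4), 2 * (b.val : ZMod 4), 2 * (c.val : ZMod 4), 1 + 2 * (d.val : ZMod 4)] := by
    decide +kernel
  have k2 : ∀ m : W4, red m = ![0, 1, 1, 1] → ∃ a b c d : Fin 2, m =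
      ![2 * (a.val : ZMod 4), 1 + 2 * (b.val : ZMod 4), 1 + 2 * (c.val : ZMod 4), 1 + 2 * (d.val : ZMod 4)] := by
    decide +kernel
  obtain ⟨a, b, c, d, rfl⟩ := k1 m1 hr1
  obtain ⟨a', b', c', d', rfl⟩ := k2 m2 hr2
  exact natural_false a b c d a' b' c' d' ⟨htwo _, htwo _⟩

/-- no homocyclic radical -/
theorem homocyclic_false (h4 : Cfsg.SectionalPRankLE 2 4 X) [hQn : Q.Normal] [M.Normal] (hM : Cen Q M)
    (Lf : Lift D M) (hcQ : ∀ p ∈ Q, ∀ q ∈ Q, p * q = q * p) (hz : ∀ v, Lf.L v * Lf.L v = 1 → v = 0)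
    (hs : ∀ m ∈ M, ∃ v, Lf.L v * Lf.L v = m) : False := by
  obtain ⟨π, hπ, hadd, hmul, hQ1, -, hA⟩ := exists_action Lf hM
  by_cases hN : ∀ v, mA (π D.b v + v) = π D.b v + v
  · exact natural_case hM Lf hcQ hz hs π hπ hadd hmul hQ1 hA hN
  push Not at hN
  obtain ⟨v, hv⟩ := hN
  have hb2 : D.b * D.b ∈ Q := by
    rw [D.b_def, show D.g * D.a * D.g⁻¹ * (D.g * D.a * D.g⁻¹) = D.g * (D.a * D.a) * D.g⁻¹ by group]
    exact hQn.conj_mem _ D.a2 _
  have hbQ : D.b ∉ Q := fun hb => D.aQ (by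
    have := hQn.conj_mem _ hb D.g⁻¹
    rwa [D.b_def, inv_inv, show D.g⁻¹ * (D.g * D.a * D.g⁻¹) * D.g = D.a by group] at this)
  refine free_false h4 hM Lf hcQ hz hs π hπ hadd hmul hQ1 D.a D.b D.aQ hbQ D.abQ D.a2 hb2 D.comm v fun h0 => hv ?_
  rw [hmul, hA, hA] at h0
  rw [← hA, hadd, hA, hA]
  refine CharTwo.add_eq_zero.mp ?_
  rw [← h0]; abel

end Cfsg.Agent.H40.AFiveRadical
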