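import Cfsg.Agent.H40.AFiveRadical.Homocyclic

/-!
The first layer below the top is not the module of order sixteen.
-/

set_option autoImplicit false
set_option linter.style.haveILetI false

namespace Cfsg.Agent.H40.AFiveRadical

theorem basis_free : ∀ i j k l : Fin 2, i.val • (![1, 0, 0, 0] : V) + j.val • (![0, 1, 0, 0] : V) +
    k.val • (![0, 0, 1, 0] : V) + l.val • (![0, 0, 0, 1] : V) = 0 → i = 0 ∧ j = 0 ∧ k = 0 ∧ l = 0 := by
  decide +kernel

theorem o1_add_oW : o1 + oW ≠ 0 := by decide +kernel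

theorem avoid_line : ∀ (i : Fin 4) (k : V), k i ≠ 0 → ∀ x y z : Fin 2,
    (x.val • (Pi.single (i.succAbove 0) 1 : V) + y.val • (Pi.single (i.succAbove 1) 1 : V) +
        z.val • (Pi.single (i.succAbove 2) 1 : V) = 0 ∨
      x.val • (Pi.single (i.succAbove 0) 1 : V) + y.val • (Pi.single (i.succAbove 1) 1 : V) +
        z.val • (Pi.single (i.succAbove 2) 1 : V) = k) → x = 0 ∧ y = 0 ∧ z = 0 := by
  decide +kernel

variable {X : Type*} [Group X] [Finite X] {Q M : Subgroup X} {D : Data Q}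

theorem layer16_false (h4 : Cfsg.SectionalPRankLE 2 4 X) [Q.Normal] [hMn : M.Normal] (hQp : IsPGroup 2 Q)
    (hM : Cen Q M) (Lf : Lift D M) (hmove : ∃ m ∈ M, D.ρ * m * D.ρ⁻¹ ≠ m) : False := by
  classical
  haveI := Fact.mk Nat.prime_two
  obtain ⟨n, hn⟩ := (hQp.to_le hM.le).exists_card_eq
  have hn4 : n ≤ 4 := (Nat.pow_le_pow_iff_right (by norm_num)).mp (hn ▸ Sec62.card_le_of_invol h4 M hM.exp)
  obtain ⟨-, e, hem, hinj, hsurj, hadd, hR, hA, -⟩ := D.module_coords M (fun v hv w hw => hM.comm v hv w (hM.le hw))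
    hM.exp hn4 hn (fun q hq w hw => (hM.comm w hw q hq).symm) hmove
  obtain ⟨F⟩ := exists_form Lf hM e hinj hsurj hadd
  have he0 : e 0 = 1 := by simpa using (left_eq_mul.mp ((congrArg e (add_zero (0 : V))).symm.trans (hadd 0 0)))
  have hpe : ∀ (b : V) (n : Fin 2), e b ^ n.val = e (n.val • b) := fun b n => by fin_cases n <;> simp [he0]
  have hMc : ∀ t, ∀ q ∈ Q, q * e t * q⁻¹ = e t := fun t q hq => by
    rw [← hM.comm _ (hem t) q hq, mul_inv_cancel_right]
  have hcomm1 : ∀ t, ∀ q ∈ Q, e t * q * (e t)⁻¹ * q⁻¹ = 1 := fun t q hq => by rw [hM.comm _ (hem t) q hq]; group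
  have hcomm2 : ∀ t, ∀ q ∈ Q, q * e t * q⁻¹ * (e t)⁻¹ = 1 := fun t q hq => by rw [hMc t q hq, mul_inv_cancel]
  by_cases hzero : ∃ v : V, v ≠ 0 ∧ F.q v = 0
  · obtain ⟨v, hv0, hv⟩ := hzero
    have hvv : Lf.L v * Lf.L v = 1 := by rw [← F.spec, hv, he0]
    refine no_five h4 ⊥ ![e ![1, 0, 0, 0], e ![0, 1, 0, 0], e ![0, 0, 1, 0], e ![0, 0, 0, 1], Lf.L v]
      (fun i k hk => ?_) (fun i => ?_) (fun i j => ?_) fun a ha => ?_
    · rw [Subgroup.mem_bot.mp hk]; simp
    · rw [Subgroup.mem_bot]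
      fin_cases i <;> first | exact hvv | exact hM.exp _ (hem _)
    · rw [Subgroup.mem_bot]
      fin_cases i <;> fin_cases j <;> first
        | exact hcomm1 _ _ (hM.le (hem _)) | exact hcomm1 _ _ (Lf.mem v) | exact hcomm2 _ _ (Lf.mem v) | simp
    · replace ha : e ![1, 0, 0, 0] ^ (a 0).val * e ![0, 1, 0, 0] ^ (a 1).val * e ![0, 0, 1, 0] ^ (a 2).val *
          e ![0, 0, 0, 1] ^ (a 3).val * Lf.L v ^ (a 4).val = 1 := Subgroup.mem_bot.mp ha
      simp only [hpe, ← hadd] at ha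
      have h4' : a 4 = 0 := by
        rcases (show ∀ i : Fin 2, i = 0 ∨ i = 1 by decide) (a 4) with h | h
        · exact h
        · rw [h, Fin.val_one, pow_one] at ha
          refine absurd (Lf.zero v ?_) hv0
          rw [eq_inv_of_mul_eq_one_right ha]
          exact inv_mem (hem _)
      rw [h4', Fin.val_zero, pow_zero, mul_one] at ha
      obtain ⟨h0, h1, h2, h3⟩ := basis_free _ _ _ _ (hinj (ha.trans he0.symm))
      intro i
      fin_cases i <;> assumption
  push Not at hzero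
  have hqR : ∀ v, F.q (mR v) = mR (F.q v) := F.nat D.ρ mR mR hR Lf.R
  have hqA : ∀ v, F.q (mA v) = mA (F.q v) := F.nat D.a mA mA hA Lf.A
  rcases map16 F.q F.zero hqR hqA F.tri0 with ⟨v, hv0, hv⟩ | ⟨hk0, hkW, hks⟩ | hadditive
  · exact hzero v hv0 hv
  · obtain ⟨k, hk⟩ : ∃ k, k = F.q o1 := ⟨_, rfl⟩
    rw [← hk] at hk0 hkW hks
    obtain ⟨i, hi⟩ : ∃ i, k i ≠ 0 := Function.ne_iff.mp hk0
    let K : Subgroup X :=
      { carrier := {z | z = 1 ∨ z = e k}
        one_mem' := Or.inl rfl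
        mul_mem' := by
          rintro _ _ (rfl | rfl) (rfl | rfl)
          · exact Or.inl (one_mul _)
          · exact Or.inr (one_mul _)
          · exact Or.inr (mul_one _)
          · exact Or.inl (hM.exp _ (hem k))
        inv_mem' := by
          rintro _ (rfl | rfl)
          · exact Or.inl inv_one
          · exact Or.inr (inv_eq_of_mul_eq_one_right (hM.exp _ (hem k))) }
    have hKM : K ≤ M := fun z hz => hz.elim (fun h => h ▸ one_mem _) (fun h => h ▸ hem k)
    have hkK : e k ∈ K := Or.inr rfl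
    have hsq1 : Lf.L o1 * Lf.L o1 ∈ K := by rw [← F.spec, ← hk]; exact hkK
    have hsq2 : Lf.L oW * Lf.L oW ∈ K := by rw [← F.spec, hkW]; exact hkK
    have hc12 : Lf.L o1 * Lf.L oW * (Lf.L o1)⁻¹ * (Lf.L oW)⁻¹ ∈ K := by
      rw [← F.bil, br, ← hk, hkW, hks, CharTwo.add_self_eq_zero, zero_add]; exact hkK
    have hside : ∀ {p q : X}, p * q * p⁻¹ * q⁻¹ ∈ K → q * p * q⁻¹ * p⁻¹ ∈ K := fun {p q} h => by
      refine cast (congrArg (· ∈ K) ?_) (inv_mem h)
      group
    obtain ⟨b0, b1, b2, hb⟩ : ∃ b0 b1 b2 : V, ∀ x y z : Fin 2, (x.val • b0 + y.val • b1 + z.val • b2 = 0 ∨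
        x.val • b0 + y.val • b1 + z.val • b2 = k) → x = 0 ∧ y = 0 ∧ z = 0 :=
      ⟨Pi.single (i.succAbove 0) 1, Pi.single (i.succAbove 1) 1, Pi.single (i.succAbove 2) 1,
        avoid_line i k hi⟩
    refine no_five h4 K ![Lf.L o1, Lf.L oW, e b0, e b1, e b2] (fun j z hz => ?_) (fun j => ?_) (fun j l => ?_)
      fun a ha => ?_
    · have hq : (![Lf.L o1, Lf.L oW, e b0, e b1, e b2] : Fin 5 → X) j ∈ Q := by
        fin_cases j <;> first | exact Lf.mem _ | exact hM.le (hem _)
      rw [← hM.comm z (hKM hz) _ hq, mul_inv_cancel_right]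
      exact hz
    · fin_cases j <;> first | exact hsq1 | exact hsq2 | (show _ ∈ K; exact (hM.exp _ (hem _)).symm ▸ one_mem K)
    · fin_cases j <;> fin_cases l <;> first
        | exact hc12 | exact hside hc12
        | (show _ ∈ K; exact (hcomm1 _ _ (hM.le (hem _))).symm ▸ one_mem K)
        | (show _ ∈ K; exact (hcomm1 _ _ (Lf.mem _)).symm ▸ one_mem K)
        | (show _ ∈ K; exact (hcomm2 _ _ (Lf.mem _)).symm ▸ one_mem K)
        | simp
    · replace ha : Lf.L o1 ^ (a 0).val * Lf.L oW ^ (a 1).val * e b0 ^ (a 2).val * e b1 ^ (a 3).val *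
          e b2 ^ (a 4).val ∈ K := ha
      simp only [hpe, mul_assoc, ← hadd] at ha
      obtain ⟨h0, h1⟩ : a 0 = 0 ∧ a 1 = 0 := by
        have h := mul_mem (hKM ha) (inv_mem (hem ((a 2).val • b0 + (a 3).val • b1 + (a 4).val • b2)))
        rw [← mul_assoc (Lf.L o1 ^ _), mul_inv_cancel_right] at h
        rcases (show ∀ i : Fin 2, i = 0 ∨ i = 1 by decide) (a 0) with h0 | h0 <;>
          rcases (show ∀ i : Fin 2, i = 0 ∨ i = 1 by decide) (a 1) with h1 | h1 <;> rw [h0, h1] at h ⊢ <;>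
          simp only [Fin.val_zero, Fin.val_one, pow_zero, pow_one, one_mul, mul_one] at h
        · exact ⟨rfl, rfl⟩
        · exact absurd (Lf.zero _ h) (by decide)
        · exact absurd (Lf.zero _ h) (by decide)
        · refine absurd (Lf.zero (o1 + oW) ?_) o1_add_oW
          have := mul_mem h (inv_mem (Lf.add o1 oW))
          rwa [mul_inv_rev, inv_inv, mul_inv_cancel_left] at this
      rw [h0, h1, Fin.val_zero, pow_zero, pow_zero, one_mul, one_mul] at ha
      obtain ⟨h2, h3, h4'⟩ := hb _ _ _ (ha.imp (fun h => hinj (h.trans he0.symm)) (fun h => hinj h))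
      intro j
      fin_cases j <;> assumption
  · have hc : ∀ u v, Lf.L u * Lf.L v = Lf.L v * Lf.L u := fun u v => by
      have h := F.bil u v
      rw [br, hadditive, add_assoc, CharTwo.add_self_eq_zero, he0] at h
      calc Lf.L u * Lf.L v = Lf.L u * Lf.L v * (Lf.L u)⁻¹ * (Lf.L v)⁻¹ * (Lf.L v * Lf.L u) := by group
        _ = _ := by rw [← h, one_mul]
    have hcQ : ∀ p ∈ Q, ∀ q ∈ Q, p * q = q * p := by
      intro p hp q hq
      obtain ⟨u, hu⟩ := Lf.cover p hp
      obtain ⟨v, hv⟩ := Lf.cover q hq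
      have c1 : Commute ((Lf.L u)⁻¹ * p) q := hM.comm _ hu q hq
      have c2 : Commute (Lf.L u) ((Lf.L v)⁻¹ * q) := (hM.comm _ hv _ (Lf.mem u)).symm
      have c3 : Commute (Lf.L u) q := by
        have := (show Commute (Lf.L u) (Lf.L v) from hc u v).mul_right c2
        rwa [mul_inv_cancel_left] at this
      have := c3.mul_left c1
      rwa [mul_inv_cancel_left] at this
    refine homocyclic_false h4 hM Lf hcQ (fun v hv => ?_) fun m hm => ?_
    · by_contra h
      exact hzero v h (hinj (by rw [F.spec, hv, he0]))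
    · obtain ⟨t, rfl⟩ := hsurj m hm
      have hsj : Function.Surjective F.q := Finite.surjective_of_injective fun u v h => by
        refine CharTwo.add_eq_zero.mp ?_
        by_contra hne
        exact hzero _ hne (by rw [hadditive, h, CharTwo.add_self_eq_zero])
      obtain ⟨v, hv⟩ := hsj t
      exact ⟨v, by rw [← hv, F.spec]⟩

end Cfsg.Agent.H40.AFiveRadical
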