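import Cfsg.Agent.H40.AFiveRadical.Sqr

/-!
There is no layer below the centre of the extraspecial section.
-/

set_option autoImplicit false
set_option linter.style.haveILetI false

namespace Cfsg.Agent.H40.AFiveRadical

theorem w2_cases : ∀ t : W2, t = ![0, 0] ∨ t = ![1, 0] ∨ t = ![0, 1] ∨ t = ![1, 1] := by decide +kernel

theorem z2_cases : ∀ s : ZMod 2, s = 0 ∨ s = 1 := by decide

variable {X : Type*} [Group X] [Finite X] {Q : Subgroup X}

theorem fixed_of_shift {x z l : X} (hxl : x * l = l * x) (hl : l * l = 1) (h : x * z * x⁻¹ = z * l) {n : ℕ}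
    (hn : x ^ n = 1) (hodd : n % 2 = 1) : l = 1 := by
  have key : ∀ k : ℕ, x ^ k * z * (x ^ k)⁻¹ = z * l ^ k := by
    intro k
    induction k with
    | zero => simp
    | succ k ih =>
      have hc : Commute x (l ^ k) := (show Commute x l from hxl).pow_right k
      calc x ^ (k + 1) * z * (x ^ (k + 1))⁻¹ = x * (x ^ k * z * (x ^ k)⁻¹) * x⁻¹ := by
            rw [pow_succ', mul_inv_rev]; group
        _ = x * z * x⁻¹ * (x * l ^ k * x⁻¹) := by rw [ih]; group
        _ = z * l ^ (k + 1) := by rw [h, hc.eq, mul_inv_cancel_right, pow_succ', mul_assoc]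
  have h1 := key n
  rw [hn, one_mul, inv_one, mul_one, ← Nat.div_add_mod n 2, hodd, pow_add, pow_mul, pow_two, hl, one_pow, one_mul,
    pow_one] at h1
  exact left_eq_mul.mp h1

theorem layer2_false (h4 : Cfsg.SectionalPRankLE 2 4 X) [hQn : Q.Normal] (hQp : IsPGroup 2 Q) (D : Data Q)
    (L P : Subgroup X) [hLn : L.Normal] [hPn : P.Normal] (hLP : L ≤ P) (hPQ : P ≤ Q) (hL1 : L ≠ ⊥)
    (hmin : ∀ Y : Subgroup X, Y.Normal → Y ≤ L → Y = ⊥ ∨ Y = L) (hPL : Nat.card P = 2 * Nat.card L)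
    (hsq : ∀ q ∈ Q, q * q ∈ P) (hgen : P ≤ Subgroup.closure {m | ∃ q ∈ Q, q * q = m})
    (hne : ∃ q ∈ Q, D.ρ * q * D.ρ⁻¹ * q⁻¹ ∉ P)
    (hnab : ∃ p ∈ Q, ∃ q ∈ Q, p * q * p⁻¹ * q⁻¹ ∉ L) : False := by
  classical
  haveI := Fact.mk Nat.prime_two
  obtain ⟨hLc, hL2⟩ := Sec62.minimal_central hQp L (hLP.trans hPQ) hL1 hmin
  -- the two cosets of `L` in `P`
  obtain ⟨f, hf⟩ : ∃ f : X →* X ⧸ L, f = QuotientGroup.mk' L := ⟨_, rfl⟩
  have hk : ∀ x, f x = 1 ↔ x ∈ L := fun x => by rw [hf]; exact QuotientGroup.eq_one_iff x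
  have hcardf : Nat.card (P.map f) = 2 := by
    have h := Sec62.card_map_mk L P hLP
    rw [← hf, hPL] at h
    exact Nat.eq_of_mul_eq_mul_right Nat.card_pos h
  obtain ⟨z, hzP, hzL⟩ : ∃ z ∈ P, z ∉ L := by
    by_contra h
    push Not at h
    have : P = L := le_antisymm h hLP
    rw [this] at hPL
    have := Nat.card_pos (α := L)
    omega
  have hcos : ∀ p ∈ P, p ∉ L → z⁻¹ * p ∈ L := fun p hp hpL => by
    obtain ⟨a, b, -, hab⟩ := Nat.card_eq_two_iff.mp hcardf
    have h : ∀ t : P.map f, t = a ∨ t = b := fun t => by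
      have : t ∈ ({a, b} : Set (P.map f)) := hab ▸ Set.mem_univ t
      simpa using this
    rw [← hk, map_mul, map_inv, inv_mul_eq_one]
    have hz1 : f z ≠ 1 := fun e => hzL ((hk _).mp e)
    have hp1 : f p ≠ 1 := fun e => hpL ((hk _).mp e)
    rcases h ⟨f z, Subgroup.mem_map_of_mem f hzP⟩ with e | e <;>
      rcases h ⟨f p, Subgroup.mem_map_of_mem f hp⟩ with e' | e' <;> rcases h 1 with e'' | e'' <;>
        first
          | exact congrArg Subtype.val (e.trans e'.symm)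
          | exact absurd (congrArg Subtype.val (e.trans e''.symm)) hz1
          | exact absurd (congrArg Subtype.val (e'.trans e''.symm)) hp1
  have hdec : ∀ p ∈ P, p ∈ L ∨ ∃ l ∈ L, p = z * l := fun p hp => by
    by_cases hpL : p ∈ L
    · exact Or.inl hpL
    · exact Or.inr ⟨_, hcos p hp hpL, (mul_inv_cancel_left _ _).symm⟩
  have hPc : ∀ p ∈ P, ∀ q ∈ P, p * q = q * p := by
    have hzz : ∀ l ∈ L, Commute l z := fun l hl => hLc l hl z (hPQ hzP)
    intro p hp q hq
    rcases hdec p hp with h | ⟨l, hl, rfl⟩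
    · exact hLc p h q (hPQ hq)
    · rcases hdec q hq with h' | ⟨l', hl', rfl⟩
      · exact (hLc q h' _ (hPQ hp)).symm
      · exact ((Commute.refl z).mul_right (hzz l' hl').symm).mul_left
          (((hzz l hl).mul_right (hLc l hl l' (hPQ (hLP hl'))))) |>.eq
  obtain ⟨n, hn⟩ := (hQp.to_le (hLP.trans hPQ)).exists_card_eq
  have hn4 : n ≤ 4 := (Nat.pow_le_pow_iff_right (by norm_num)).mp (hn ▸ Sec62.card_le_of_invol h4 L hL2)
  by_cases hmove : ∃ l ∈ L, D.ρ * l * D.ρ⁻¹ ≠ l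
  · obtain ⟨h16, e, -, -, hsurj, -, -, -, hfix⟩ := D.module_coords L
      (fun v hv w hw => hLc v hv w (hPQ (hLP hw))) hL2 hn4 hn (fun q hq w hw => (hLc w hw q hq).symm) hmove
    letI : CommGroup P := { (inferInstance : Group P) with mul_comm := fun a b => Subtype.ext (hPc a a.2 b b.2) }
    let σ : MulAut P := MulAut.conjNormal D.ρ
    have hσ : σ ^ 5 = 1 := by rw [← map_pow, D.ρ5, map_one]
    have hmod := card_fixed_mod σ hσ
    rw [hPL, h16] at hmod
    obtain ⟨w, hw, hw1⟩ : ∃ w : P, σ w = w ∧ w ≠ 1 := by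
      by_contra h
      push Not at h
      have : Nat.card {w : P // σ w = w} = 1 := Nat.card_eq_one_iff_unique.mpr
        ⟨⟨fun a b => Subtype.ext ((h a a.2).trans (h b b.2).symm)⟩, ⟨⟨1, map_one σ⟩⟩⟩
      rw [this] at hmod
      omega
    have hw' : D.ρ * (w : X) * D.ρ⁻¹ = w := (MulAut.conjNormal_apply D.ρ w).symm.trans (congrArg Subtype.val hw)
    have hfix' : ∀ u ∈ L, D.ρ * u * D.ρ⁻¹ = u → u = 1 := fun u hu h => by
      obtain ⟨v, rfl⟩ := hsurj u hu
      obtain ⟨v0, hv0⟩ := hsurj 1 (one_mem L)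
      rw [hfix v h, ← hv0, hfix v0 (by rw [hv0]; group)]
    have hwL : (w : X) ∉ L := fun h => hw1 (Subtype.ext (hfix' _ h hw'))
    have hmemL : (w : X) * w ∈ L := by
      by_contra hno
      have h := (hdec _ (mul_mem w.2 w.2)).resolve_left hno
      have e1 := (hk _).mpr (hcos _ (mul_mem w.2 w.2) hno)
      have e2 := (hk _).mpr (hcos _ w.2 hwL)
      rw [map_mul, map_inv, inv_mul_eq_one] at e1 e2
      rw [map_mul, ← e2, left_eq_mul] at e1
      exact hzL ((hk _).mp e1)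
    have hww : (w : X) * w = 1 := hfix' _ hmemL (by rw [show D.ρ * ((w : X) * w) * D.ρ⁻¹ = D.ρ * w * D.ρ⁻¹ * (D.ρ * w * D.ρ⁻¹) by group, hw'])
    have hall : ∀ p ∈ P, p * p = 1 := by
      intro p hp
      by_cases hpL : p ∈ L
      · exact hL2 p hpL
      have h : (w : X)⁻¹ * p ∈ L := by
        have := mul_mem (inv_mem (hcos _ w.2 hwL)) (hcos p hp hpL)
        rwa [mul_inv_rev, inv_inv, mul_assoc, mul_inv_cancel_left] at this
      obtain ⟨l, hl, rfl⟩ : ∃ l ∈ L, p = w * l := ⟨_, h, (mul_inv_cancel_left _ _).symm⟩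
      rw [mul_assoc, ← mul_assoc l, hLc l hl w (hPQ w.2), mul_assoc (w : X) l, hL2 l hl, mul_one, hww]
    have := Sec62.card_le_of_invol h4 P hall
    rw [hPL, h16] at this
    omega
  push Not at hmove
  have hLX : ∀ (y : X), ∀ w ∈ L, y * w = w * y :=
    D.fix_all L (fun q hq w hw => (hLc w hw q hq).symm) D.ρQ fun w hw => mul_inv_eq_iff_eq_mul.mp (hmove w hw)
  obtain ⟨l, hlL, hl1⟩ : ∃ l ∈ L, l ≠ 1 := by
    by_contra h
    push Not at h
    exact hL1 (le_bot_iff.mp fun x hx => Subgroup.mem_bot.mpr (h x hx))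
  have hLtwo : ∀ m ∈ L, m = 1 ∨ m = l := by
    have hnl : (Subgroup.zpowers l).Normal := ⟨fun m hm g => by
      rw [hLX g m (Subgroup.zpowers_le.mpr hlL hm), mul_inv_cancel_right]; exact hm⟩
    have hL : Subgroup.zpowers l = L := (hmin _ hnl (Subgroup.zpowers_le.mpr hlL)).resolve_left
      (fun h => hl1 (Subgroup.mem_bot.mp (h ▸ Subgroup.mem_zpowers l)))
    intro m hm
    rw [← hL] at hm
    obtain ⟨k, rfl⟩ := Subgroup.mem_zpowers_iff.mp hm
    rcases Int.even_or_odd' k with ⟨j, rfl | rfl⟩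
    · left; rw [zpow_mul, zpow_two, hL2 l hlL, one_zpow]
    · right; rw [zpow_add_one, zpow_mul, zpow_two, hL2 l hlL, one_zpow, one_mul]
  have hshift : ∀ x : X, ∃ m ∈ L, x * z * x⁻¹ = z * m := fun x => by
    refine ⟨_, hcos _ (hPn.conj_mem z hzP x) (fun h => hzL ?_), (mul_inv_cancel_left _ _).symm⟩
    have := hLn.conj_mem _ h x⁻¹
    rwa [inv_inv, show x⁻¹ * (x * z * x⁻¹) * x = z by group] at this
  have hodd : ∀ (x : X) (k : ℕ), x ^ k = 1 → k % 2 = 1 → x * z * x⁻¹ = z := by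
    intro x k hk1 hk2
    obtain ⟨m, hm, he⟩ := hshift x
    rw [he, fixed_of_shift (hLX x m hm) (hL2 m hm) he hk1 hk2, mul_one]
  have hρz : D.ρ * z * D.ρ⁻¹ = z := hodd D.ρ 5 D.ρ5 rfl
  obtain ⟨-, ⟨Lf⟩⟩ := exists_lift h4 hQn hQp D P hPQ hsq hne
  -- `z` is central in `Q`
  have hzQ : ∀ q ∈ Q, q * z = z * q := by
    obtain ⟨c, hcdef⟩ : ∃ c : X → X, c = fun q => z⁻¹ * (q * z * q⁻¹) := ⟨_, rfl⟩
    have hcL : ∀ q, c q ∈ L := fun q => by
      obtain ⟨m, hm, he⟩ := hshift q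
      rw [hcdef]; simp only [he, inv_mul_cancel_left]; exact hm
    have hcmul : ∀ p q, c (p * q) = c p * c q := fun p q => by
      have h := hLX p (c q) (hcL q)
      rw [hcdef] at h ⊢
      simp only at h ⊢
      calc z⁻¹ * (p * q * z * (p * q)⁻¹) = z⁻¹ * (p * z) * (z⁻¹ * (q * z * q⁻¹)) * p⁻¹ := by group
        _ = z⁻¹ * (p * z * p⁻¹) * (p * (z⁻¹ * (q * z * q⁻¹)) * p⁻¹) := by group
        _ = _ := by rw [h, mul_inv_cancel_right]
    have hcP : ∀ p ∈ P, c p = 1 := fun p hp => by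
      rw [hcdef]; simp only
      rw [hPc p hp z hzP]; group
    have hcL' : ∀ q v, (Lf.L v)⁻¹ * q ∈ P → c q = c (Lf.L v) := fun q v h => by
      conv_lhs => rw [← mul_inv_cancel_left (Lf.L v) q, hcmul, hcP _ h, mul_one]
    have hv : ∀ v, c (Lf.L v) = 1 := by
      intro v
      obtain ⟨w, hw⟩ := R_surj v
      have h1 := hcL' _ _ (Lf.add (mR w) w)
      have h2 := hcL' _ _ (Lf.R w)
      have hρ1 : c D.ρ = 1 := by rw [hcdef]; simp only [hρz, inv_mul_cancel]
      have hρ2 : c D.ρ⁻¹ = 1 := by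
        have h := hcmul D.ρ D.ρ⁻¹
        rw [mul_inv_cancel, hρ1, one_mul] at h
        rw [← h]; exact hcP 1 (one_mem P)
      rw [← hw, ← h1, hcmul, ← h2, hcmul, hcmul, hρ1, hρ2, one_mul, mul_one]
      exact hL2 _ (hcL _)
    intro q hq
    obtain ⟨v, hv'⟩ := Lf.cover q hq
    have h := (hcL' q v hv').trans (hv v)
    rw [hcdef] at h
    simp only at h
    rw [inv_mul_eq_one] at h
    exact mul_inv_eq_iff_eq_mul.mp h.symm
  have hPQc : ∀ q ∈ Q, ∀ p ∈ P, q * p = p * q := fun q hq p hp => by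
    rcases hdec p hp with h | ⟨m, hm, rfl⟩
    · exact hLX q p h
    · exact ((show Commute q z from hzQ q hq).mul_right (hLX q m hm)).eq
  have hPX : ∀ (y : X), ∀ p ∈ P, y * p = p * y := D.fix_all P hPQc D.ρQ fun p hp => by
    rcases hdec p hp with h | ⟨m, hm, rfl⟩
    · exact hLX _ p h
    · exact ((show Commute D.ρ z from mul_inv_eq_iff_eq_mul.mp hρz).mul_right (hLX _ m hm)).eq
  by_cases hzz : z * z ≠ 1
  · obtain ⟨p, hp, q, hq, hpq⟩ := hnab
    have hcP := comm_mem_of_sq hsq p hp q hq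
    have h1 : (p * q * p⁻¹ * q⁻¹) * (p * q * p⁻¹ * q⁻¹) = 1 := by
      have hc := hPX q _ hcP
      calc (p * q * p⁻¹ * q⁻¹) * (p * q * p⁻¹ * q⁻¹) = (p * q * p⁻¹ * q⁻¹) * (q * (p * q * p⁻¹ * q⁻¹) * q⁻¹) := by
            rw [hc, mul_inv_cancel_right]
        _ = p * (q * q) * p⁻¹ * (q * q)⁻¹ := by group
        _ = 1 := by rw [hPX p _ (hsq q hq), mul_inv_cancel_right, mul_inv_cancel]
    refine hzz ?_
    obtain ⟨m, hm, he⟩ := (hdec _ hcP).resolve_left hpq
    rw [he, mul_assoc, ← mul_assoc m, hLc m hm z (hPQ hzP), mul_assoc z m, hL2 m hm, mul_one] at h1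
    exact h1
  push Not at hzz
  have hM : Cen Q P := ⟨hPQ, fun p hp q hq => (hPQc q hq p hp).symm, fun p hp => by
    rcases hdec p hp with h | ⟨m, hm, rfl⟩
    · exact hL2 p h
    · rw [mul_assoc, ← mul_assoc m, hLc m hm z (hPQ hzP), mul_assoc z m, hL2 m hm, mul_one, hzz], hsq⟩
  let e : W2 → X := fun t => z ^ (t 0).val * l ^ (t 1).val
  have hcases := w2_cases
  have ev : e ![0, 0] = 1 ∧ e ![1, 0] = z ∧ e ![0, 1] = l ∧ e ![1, 1] = z * l := by
    simp [e, ZMod.val_one]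
  have he_inj : Function.Injective e := fun s t h => by
    have n1 : z ≠ 1 := fun h => hzL (h ▸ one_mem L)
    have n2 : z * l ≠ 1 := fun h => hzL (by rw [eq_inv_of_mul_eq_one_left h]; exact inv_mem hlL)
    have n3 : z ≠ l := fun h => hzL (h ▸ hlL)
    have n4 : z * l ≠ z := fun h => hl1 (mul_eq_left.mp h)
    have n5 : z * l ≠ l := fun h => n1 (mul_eq_right.mp h)
    rcases hcases s with rfl | rfl | rfl | rfl <;> rcases hcases t with rfl | rfl | rfl | rfl <;>
      simp only [ev.1, ev.2.1, ev.2.2.1, ev.2.2.2] at h <;>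
      first
        | rfl | exact absurd h n1 | exact absurd h n1.symm | exact absurd h hl1 | exact absurd h hl1.symm
        | exact absurd h n2 | exact absurd h n2.symm | exact absurd h n3 | exact absurd h n3.symm
        | exact absurd h n4 | exact absurd h n4.symm | exact absurd h n5 | exact absurd h n5.symm
  have he_surj : ∀ m ∈ P, ∃ t, e t = m := fun m hm => by
    rcases hdec m hm with h | ⟨k, hk', rfl⟩
    · rcases hLtwo m h with rfl | rfl
      · exact ⟨_, ev.1⟩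
      · exact ⟨_, ev.2.2.1⟩
    · rcases hLtwo k hk' with rfl | rfl
      · exact ⟨_, ev.2.1.trans (mul_one z).symm⟩
      · exact ⟨_, ev.2.2.2⟩
  have he_add : ∀ u v, e (u + v) = e u * e v := fun u v => by
    have hp : ∀ (w : X), w * w = 1 → ∀ a c : ZMod 2, w ^ (a + c).val = w ^ a.val * w ^ c.val := fun w hw a c => by
      rcases z2_cases a with rfl | rfl <;>
        rcases z2_cases c with rfl | rfl <;> simp [ZMod.val_one, hw]
      rw [show ((1 : ZMod 2) + 1).val = 0 from rfl, pow_zero]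
    simp only [e, Pi.add_apply, hp z hzz, hp l (hL2 l hlL)]
    exact (show Commute (z ^ (v 0).val) (l ^ (u 1).val) from
      ((show Commute z l from hPX z l (hLP hlL)).pow_pow _ _)).mul_mul_mul_comm _ _
  obtain ⟨F⟩ := exists_form Lf hM e he_inj he_surj he_add
  obtain ⟨π, hπ, hπadd, hπmul, hπQ, hπR, -⟩ := exists_action Lf hM
  have hcent : ∀ (x : X) (t : W2), e (id t) = x * e t * x⁻¹ := fun x t => by
    have : e t ∈ P := by
      rcases hcases t with rfl | rfl | rfl | rfl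
      · rw [ev.1]; exact one_mem P
      · rw [ev.2.1]; exact hzP
      · rw [ev.2.2.1]; exact hLP hlL
      · rw [ev.2.2.2]; exact mul_mem hzP (hLP hlL)
    rw [hPX x _ this, mul_inv_cancel_right]; rfl
  have hspan : ∀ φ : W2, φ ≠ 0 → ∃ v, φ 0 * F.q v 0 + φ 1 * F.q v 1 ≠ 0 := by
    intro φ hφ
    by_contra hall
    push Not at hall
    have e0 : e 0 = 1 := by simp [e]
    let H : Subgroup X :=
      { carrier := {x | ∃ t, φ 0 * t 0 + φ 1 * t 1 = 0 ∧ e t = x}
        one_mem' := ⟨0, by simp, e0⟩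
        mul_mem' := by
          rintro _ _ ⟨s, hs, rfl⟩ ⟨t, ht, rfl⟩
          refine ⟨s + t, ?_, he_add s t⟩
          simp only [Pi.add_apply]
          linear_combination hs + ht
        inv_mem' := by
          rintro _ ⟨s, hs, rfl⟩
          refine ⟨s, hs, (inv_eq_of_mul_eq_one_right (hM.exp _ ?_)).symm⟩
          rcases hcases s with rfl | rfl | rfl | rfl
          · rw [ev.1]; exact one_mem P
          · rw [ev.2.1]; exact hzP
          · rw [ev.2.2.1]; exact hLP hlL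
          · rw [ev.2.2.2]; exact mul_mem hzP (hLP hlL) }
    have hPH : P ≤ H := hgen.trans ((Subgroup.closure_le _).mpr (by
      rintro _ ⟨q, hq, rfl⟩
      exact F.gen H (fun v => ⟨_, hall v, rfl⟩) q hq))
    obtain ⟨s, hs, hse⟩ := hPH hzP
    obtain ⟨t, ht, hte⟩ := hPH (hLP hlL)
    rw [he_inj (hse.trans ev.2.1.symm)] at hs
    rw [he_inj (hte.trans ev.2.2.1.symm)] at ht
    refine hφ (funext fun i => ?_)
    fin_cases i
    · simpa using hs
    · simpa using ht
  have hrπ := map22 F.q F.zero (F.nat D.ρ mR id (hcent D.ρ) Lf.R) F.tri0 hspan (π D.r) (hπadd D.r)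
    (fun v => by rw [← hπmul, ← hπmul, ← pow_two, ← pow_succ, D.r3]; exact hπQ 1 (one_mem Q) v)
    (F.nat D.r (π D.r) id (hcent D.r) (hπ D.r))
  let N : Subgroup X :=
    { carrier := {x | ∀ v, π x v = v}
      one_mem' := hπQ 1 (one_mem Q)
      mul_mem' := fun {x y} hx hy v => by rw [hπmul, hy, hx]
      inv_mem' := fun {x} hx v => by
        conv_lhs => rw [← hx v, ← hπmul, inv_mul_cancel]
        exact hπQ 1 (one_mem Q) v }
  have hNn : N.Normal := ⟨fun x hx g v => by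
    rw [hπmul, hπmul, hx, ← hπmul, mul_inv_cancel]; exact hπQ 1 (one_mem Q) v⟩
  rcases D.simple N hNn (fun q hq => hπQ q hq) with h | h
  · exact D.rQ (h.le (show D.r ∈ N from hrπ))
  · have h1 := R_fixed o1 ((hπR o1).symm.trans ((h.ge (Subgroup.mem_top D.ρ) : D.ρ ∈ N) o1))
    exact absurd h1 (by decide +kernel)

end Cfsg.Agent.H40.AFiveRadical
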