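import Cfsg.Agent.H40.AFiveRadical.Sqr

/-!
The central product of a quaternion and a dihedral group of order eight.
-/

set_option autoImplicit false
set_option linter.style.haveILetI false
set_option linter.unusedSectionVars false

namespace Cfsg.Agent.H40.AFiveRadical

section Gens

variable {G : Type*} [Group G] {x y : G}

theorem pow4_add (hy : y ^ 4 = 1) (s t : ZMod 4) : y ^ (s + t).val = y ^ s.val * y ^ t.val := by
  rw [ZMod.val_add, ← pow_add]
  conv_rhs => rw [← Nat.div_add_mod (s.val + t.val) 4, pow_add, pow_mul, hy, one_pow, one_mul]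

theorem pow4_swap (hy : y ^ 4 = 1) (hx : x⁻¹ * y * x = y⁻¹) (i : ZMod 4) :
    y ^ i.val * x = x * y ^ (-i).val := by
  have h : y ^ (-i).val = (y ^ i.val)⁻¹ :=
    eq_inv_of_mul_eq_one_left (by rw [← pow4_add hy, neg_add_cancel]; simp)
  have h2 : x⁻¹ * y ^ i.val * x = (y⁻¹) ^ i.val := by
    rw [← hx]
    simpa using (conj_pow (a := x⁻¹) (b := y) (i := i.val)).symm
  rw [h, ← inv_pow, ← h2]
  group

/-- the dihedral group of order eight -/
def dihedralHom (hy : y ^ 4 = 1) (hx : x⁻¹ * y * x = y⁻¹) (hxx : x * x = 1) : DihedralGroup 4 →* G :=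
  MonoidHom.mk' (fun t => match t with
    | .r i => y ^ i.val
    | .sr i => x * y ^ i.val)
    (by
      rintro (i | i) (j | j)
      · simp only [DihedralGroup.r_mul_r, pow4_add hy]
      · simp only [DihedralGroup.r_mul_sr]
        rw [← mul_assoc, pow4_swap hy hx, mul_assoc, ← pow4_add hy, neg_add_eq_sub]
      · simp only [DihedralGroup.sr_mul_r, pow4_add hy, mul_assoc]
      · simp only [DihedralGroup.sr_mul_sr]
        rw [mul_assoc, ← mul_assoc (y ^ i.val), pow4_swap hy hx, mul_assoc, ← mul_assoc x x, hxx, one_mul,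
          ← pow4_add hy, neg_add_eq_sub])

/-- the quaternion group of order eight -/
def quaternionHom (hy : y ^ 4 = 1) (hx : x⁻¹ * y * x = y⁻¹) (hxx : x * x = y * y) : QuaternionGroup 2 →* G :=
  MonoidHom.mk' (fun t => match t with
    | .a i => y ^ (show ZMod 4 from i).val
    | .xa i => x * y ^ (show ZMod 4 from i).val)
    (by
      rintro (i | i) (j | j)
      · simp only [QuaternionGroup.a_mul_a]
        exact pow4_add hy i j
      · simp only [QuaternionGroup.a_mul_xa]
        rw [← mul_assoc, pow4_swap hy hx, mul_assoc, ← pow4_add hy, neg_add_eq_sub]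
      · simp only [QuaternionGroup.xa_mul_a]
        rw [mul_assoc, ← pow4_add hy]
      · simp only [QuaternionGroup.xa_mul_xa]
        rw [mul_assoc, ← mul_assoc (y ^ (show ZMod 4 from i).val), pow4_swap hy hx, mul_assoc, ← mul_assoc x x,
          hxx, ← pow4_add hy, neg_add_eq_sub]
        show y ^ ((2 : ZMod 4) + (show ZMod 4 from j) - (show ZMod 4 from i)).val = _
        rw [add_sub_assoc, pow4_add hy, show (2 : ZMod 4).val = 2 from rfl, pow_two])

theorem not_commute_mem (hy : y ^ 4 = 1) (hne : x * y ≠ y * x) (i : ZMod 4) : x * y ^ i.val ≠ 1 := fun h => by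
  refine hne ?_
  rw [eq_inv_of_mul_eq_one_left h]
  exact ((Commute.refl y).pow_left _).inv_left.eq

theorem pow4_ne (hy : y ^ 4 = 1) (hyy : y * y ≠ 1) (i : ZMod 4) (h : y ^ i.val = 1) : i = 0 := by
  have h1 : y ≠ 1 := fun h => hyy (by rw [h, one_mul])
  rcases (show ∀ i : ZMod 4, i = 0 ∨ i = 1 ∨ i = 2 ∨ i = 3 by decide) i with rfl | rfl | rfl | rfl
  · rfl
  · exact absurd ((pow_one y).symm.trans h) h1
  · exact absurd ((pow_two y).symm.trans h) hyy
  · rw [show (3 : ZMod 4).val = 3 from rfl] at h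
    rw [pow_succ, h, one_mul] at hy
    exact absurd hy h1

theorem dihedralHom_injective (hy : y ^ 4 = 1) (hx : x⁻¹ * y * x = y⁻¹) (hxx : x * x = 1)
    (hne : x * y ≠ y * x) (hyy : y * y ≠ 1) : Function.Injective (dihedralHom hy hx hxx) := by
  rw [injective_iff_map_eq_one]
  rintro (i | i) h
  · rw [pow4_ne hy hyy i h]; exact DihedralGroup.r_zero
  · exact absurd h (not_commute_mem hy hne i)

theorem quaternionHom_injective (hy : y ^ 4 = 1) (hx : x⁻¹ * y * x = y⁻¹) (hxx : x * x = y * y)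
    (hne : x * y ≠ y * x) (hyy : y * y ≠ 1) : Function.Injective (quaternionHom hy hx hxx) := by
  rw [injective_iff_map_eq_one]
  rintro (i | i) h
  · rw [show i = 0 from pow4_ne hy hyy i h]; exact QuaternionGroup.a_zero
  · exact absurd h (not_commute_mem hy hne i)

end Gens

variable {X : Type*} [Group X] [Finite X] {Q M : Subgroup X} {D : Data Q}

/-- the group `Q₈ * D₈` -/
def IsQD (Q : Subgroup X) : Prop :=
  ∃ A B : Subgroup Q, Nonempty (↥A ≃* QuaternionGroup 2) ∧ Nonempty (↥B ≃* DihedralGroup 4) ∧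
    (∀ a ∈ A, ∀ b ∈ B, a * b = b * a) ∧ A ⊔ B = ⊤ ∧ A ⊓ B = Subgroup.center Q

theorem shape [hMn : M.Normal] (hM : Cen Q M) (Lf : Lift D M) (hcard : Nat.card M = 2)
    (hne : ∃ q ∈ Q, q * q ≠ 1) : IsQD Q ∧ ∃ p ∈ Q, ∃ r ∈ Q, p * r ≠ r * p := by
  classical
  obtain ⟨q₀, hq₀, hq₀'⟩ := hne
  obtain ⟨z, hzdef⟩ : ∃ z, z = q₀ * q₀ := ⟨_, rfl⟩
  have hz1 : z ≠ 1 := hzdef ▸ hq₀'
  have hzM : z ∈ M := hzdef ▸ hM.sq _ hq₀
  have hM2 : ∀ m ∈ M, m = 1 ∨ m = z := fun m hm => by
    obtain ⟨a, b, -, hab⟩ := Nat.card_eq_two_iff.mp hcard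
    have h : ∀ t : M, t = a ∨ t = b := fun t => by
      have : t ∈ ({a, b} : Set M) := hab ▸ Set.mem_univ t
      simpa using this
    by_contra hno
    push Not at hno
    rcases h ⟨m, hm⟩ with e | e <;> rcases h ⟨z, hzM⟩ with e' | e' <;> rcases h 1 with e'' | e'' <;>
      first
        | exact hno.1 (congrArg Subtype.val (e.trans e''.symm))
        | exact hno.2 (congrArg Subtype.val (e.trans e'.symm))
        | exact hz1 (congrArg Subtype.val (e'.trans e''.symm))
  let e : ZMod 2 → X := fun t => z ^ t.val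
  have hz2 : z * z = 1 := hM.exp z hzM
  have hcases : ∀ t : ZMod 2, t = 0 ∨ t = 1 := by decide
  obtain ⟨F⟩ := exists_form Lf hM e
    (fun s t h => by
      rcases hcases s with rfl | rfl <;> rcases hcases t with rfl | rfl <;>
        first
          | rfl
          | exact absurd (by simpa [e, ZMod.val_one] using h) hz1
          | exact absurd (by simpa [e, ZMod.val_one] using h) hz1.symm)
    (fun m hm => by
      rcases hM2 m hm with rfl | rfl
      · exact ⟨0, by simp [e]⟩
      · exact ⟨1, by simp [e, ZMod.val_one]⟩)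
    (fun s t => by
      rcases hcases s with rfl | rfl <;> rcases hcases t with rfl | rfl <;> simp [e, ZMod.val_one, hz2]
      rw [show ((1 : ZMod 2) + 1).val = 0 from rfl, pow_zero])
  have hρz : D.ρ * z * D.ρ⁻¹ = z := by
    refine (hM2 _ (hMn.conj_mem z hzM D.ρ)).resolve_left fun h => hz1 ?_
    have : z = D.ρ⁻¹ * (D.ρ * z * D.ρ⁻¹) * D.ρ := by group
    rw [this, h]; group
  have hR : ∀ v, F.q (mR v) = F.q v := F.nat D.ρ mR id (fun t => by
    rcases hcases t with rfl | rfl <;> simp [e, ZMod.val_one, hρz]) Lf.R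
  rcases map2 F.q F.zero hR F.tri0 with hq | ⟨vx, vy, vu, vw, q1, q2, q3, q4, b1, b2, b3, b4, b5, b6, hspan⟩
  · refine absurd (Subgroup.mem_bot.mp (F.gen ⊥ (fun v => ?_) q₀ hq₀)) hq₀'
    rw [hq, Subgroup.mem_bot]; exact pow_zero z
  obtain ⟨x, hx⟩ : ∃ x : Q, (x : X) = Lf.L vx := ⟨⟨_, Lf.mem vx⟩, rfl⟩
  obtain ⟨y, hy⟩ : ∃ y : Q, (y : X) = Lf.L vy := ⟨⟨_, Lf.mem vy⟩, rfl⟩
  obtain ⟨u, hu⟩ : ∃ u : Q, (u : X) = Lf.L vu := ⟨⟨_, Lf.mem vu⟩, rfl⟩
  obtain ⟨w, hw⟩ : ∃ w : Q, (w : X) = Lf.L vw := ⟨⟨_, Lf.mem vw⟩, rfl⟩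
  obtain ⟨c, hc⟩ : ∃ c : Q, (c : X) = z := ⟨⟨z, hM.le hzM⟩, rfl⟩
  have hc1 : c ≠ 1 := fun h => hz1 (by rw [← hc, h]; rfl)
  have hcc : c * c = 1 := Subtype.ext (by rw [Subgroup.coe_mul, hc, hz2]; rfl)
  have hccomm : ∀ t : Q, c * t = t * c := fun t => Subtype.ext (by
    simp only [Subgroup.coe_mul, hc]; exact hM.comm z hzM t t.2)
  have hex : ∀ {t : Q} {v : V}, (t : X) = Lf.L v → ((F.q v = 0 → t * t = 1) ∧ (F.q v = 1 → t * t = c)) :=
    fun {t v} h => ⟨fun h0 => Subtype.ext (by
      rw [Subgroup.coe_mul, h, ← F.spec, h0]; exact pow_zero z), fun h1 => Subtype.ext (by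
      rw [Subgroup.coe_mul, h, ← F.spec, h1, hc]; exact pow_one z)⟩
  have hbr : ∀ {s t : Q} {v v' : V}, (s : X) = Lf.L v → (t : X) = Lf.L v' →
      ((br F.q v v' = 0 → s * t = t * s) ∧ (br F.q v v' = 1 → s * t = c * (t * s))) :=
    fun {s t v v'} h h' => ⟨fun h0 => Subtype.ext (by
      have := F.bil v v'
      rw [h0, ← h, ← h'] at this
      rw [Subgroup.coe_mul, Subgroup.coe_mul]
      calc (s : X) * t = (s : X) * t * (s : X)⁻¹ * (t : X)⁻¹ * ((t : X) * s) := by group
        _ = _ := by rw [← this, show e 0 = 1 from pow_zero z, one_mul]), fun h1 => Subtype.ext (by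
      have := F.bil v v'
      rw [h1, ← h, ← h'] at this
      simp only [Subgroup.coe_mul, hc]
      calc (s : X) * t = (s : X) * t * (s : X)⁻¹ * (t : X)⁻¹ * ((t : X) * s) := by group
        _ = _ := by rw [← this, show e 1 = z from pow_one z])⟩
  have xx := (hex hx).1 q1
  have yy := (hex hy).2 q2
  have uu := (hex hu).2 q3
  have ww := (hex hw).2 q4
  have hxy := (hbr hx hy).2 b1
  have huw := (hbr hu hw).2 b2
  have cxu : Commute x u := (hbr hx hu).1 b3
  have cxw : Commute x w := (hbr hx hw).1 b4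
  have cyu : Commute y u := (hbr hy hu).1 b5
  have cyw : Commute y w := (hbr hy hw).1 b6
  have y4 : y ^ 4 = 1 := by rw [show y ^ 4 = y * y * (y * y) by simp [pow_succ, mul_assoc], yy, hcc]
  have u4 : u ^ 4 = 1 := by rw [show u ^ 4 = u * u * (u * u) by simp [pow_succ, mul_assoc], uu, hcc]
  have hxne : x * y ≠ y * x := fun h => hc1 (mul_eq_right.mp (hxy.symm.trans h))
  have hwne : w * u ≠ u * w := fun h => hc1 (mul_eq_right.mp (huw.symm.trans h.symm))
  have hyy : y * y ≠ 1 := fun h => hc1 (yy ▸ h)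
  have huu : u * u ≠ 1 := fun h => hc1 (uu ▸ h)
  have xconj : x⁻¹ * y * x = y⁻¹ := by
    have h1 : y * x = c * (x * y) := by rw [hxy, ← mul_assoc, hcc, one_mul]
    rw [mul_assoc, h1, ← mul_assoc x⁻¹, ← (hccomm x⁻¹), mul_assoc, inv_mul_cancel_left, ← yy]
    calc y * y * y = y ^ 4 * y⁻¹ := by rw [eq_mul_inv_iff_mul_eq]; simp [pow_succ]
      _ = y⁻¹ := by rw [y4, one_mul]
  have wconj : w⁻¹ * u * w = u⁻¹ := by
    rw [mul_assoc, huw, ← mul_assoc w⁻¹, ← (hccomm w⁻¹), mul_assoc, inv_mul_cancel_left, ← uu]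
    calc u * u * u = u ^ 4 * u⁻¹ := by rw [eq_mul_inv_iff_mul_eq]; simp [pow_succ]
      _ = u⁻¹ := by rw [u4, one_mul]
  let φ := quaternionHom u4 wconj (ww.trans uu.symm)
  let ψ := dihedralHom y4 xconj xx
  have hAcases : ∀ a ∈ φ.range, ∃ i : ℕ, a = u ^ i ∨ a = w * u ^ i := by
    rintro _ ⟨(i | i), rfl⟩
    · exact ⟨_, Or.inl rfl⟩
    · exact ⟨_, Or.inr rfl⟩
  have hBcases : ∀ b ∈ ψ.range, ∃ i : ℕ, b = y ^ i ∨ b = x * y ^ i := by
    rintro _ ⟨(i | i), rfl⟩
    · exact ⟨_, Or.inl rfl⟩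
    · exact ⟨_, Or.inr rfl⟩
  have hAB : ∀ a ∈ φ.range, ∀ b ∈ ψ.range, a * b = b * a := by
    intro a ha b hb
    obtain ⟨i, rfl | rfl⟩ := hAcases a ha <;> obtain ⟨j, rfl | rfl⟩ := hBcases b hb
    · exact ((cyu.symm).pow_pow i j).eq
    · exact ((cxu.symm.pow_left i).mul_right (cyu.symm.pow_pow i j)).eq
    · exact (((cyw.symm).pow_right j).mul_left (cyu.symm.pow_pow i j)).eq
    · exact ((cxw.symm.mul_left (cxu.symm.pow_left i)).mul_right
        ((cyw.symm.pow_right j).mul_left (cyu.symm.pow_pow i j))).eq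
  have mem_u : u ∈ φ.range := ⟨.a 1, pow_one u⟩
  have mem_w : w ∈ φ.range := ⟨.xa 0, (congrArg (w * ·) (pow_zero u)).trans (mul_one w)⟩
  have mem_y : y ∈ ψ.range := ⟨.r 1, pow_one y⟩
  have mem_x : x ∈ ψ.range := ⟨.sr 0, (congrArg (x * ·) (pow_zero y)).trans (mul_one x)⟩
  have mem_cA : c ∈ φ.range := uu ▸ mul_mem mem_u mem_u
  have mem_cB : c ∈ ψ.range := yy ▸ mul_mem mem_y mem_y
  have decomp : ∀ t : Q, ∃ i j k l : Fin 2, ∃ m : Q, (m = 1 ∨ m = c) ∧
      t = x ^ i.val * y ^ j.val * (u ^ k.val * w ^ l.val) * m := by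
    intro t
    obtain ⟨v, hv⟩ := Lf.cover t t.2
    obtain ⟨i, j, k, l, hv'⟩ := hspan v
    refine ⟨i, j, k, l, (x ^ i.val * y ^ j.val * (u ^ k.val * w ^ l.val))⁻¹ * t, ?_, by rw [mul_inv_cancel_left]⟩
    obtain ⟨f, hfdef⟩ : ∃ f : X →* X ⧸ M, f = QuotientGroup.mk' M := ⟨_, rfl⟩
    have hf : ∀ a, f a = 1 ↔ a ∈ M := fun a => by rw [hfdef]; exact QuotientGroup.eq_one_iff a
    have hfL : ∀ a b, f (Lf.L (a + b)) = f (Lf.L a) * f (Lf.L b) := fun a b => by
      have h := (hf _).mpr (Lf.add a b)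
      rw [map_mul, map_inv, inv_mul_eq_one, map_mul] at h
      exact h
    have hfs : ∀ (a : V) (n : Fin 2), f (Lf.L a) ^ n.val = f (Lf.L (n.val • a)) := fun a n => by
      fin_cases n <;> simp [(hf _).mpr Lf.L_zero]
    have hmem : (x : X) ^ i.val * (y : X) ^ j.val * ((u : X) ^ k.val * (w : X) ^ l.val) = _ := rfl
    have h : ((x : X) ^ i.val * (y : X) ^ j.val * ((u : X) ^ k.val * (w : X) ^ l.val))⁻¹ * t ∈ M := by
      rw [← hf] at hv ⊢
      rw [map_mul, map_inv, inv_mul_eq_one] at hv ⊢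
      rw [← hv, hv', map_mul, map_mul, map_mul, map_pow, map_pow, map_pow, map_pow, hx, hy, hu, hw, hfs, hfs, hfs, hfs]
      simp only [hfL, mul_assoc]
    rcases hM2 _ h with h' | h'
    · exact Or.inl (Subtype.ext (by simpa using h'))
    · exact Or.inr (Subtype.ext (by rw [hc]; simpa using h'))
  refine ⟨⟨φ.range, ψ.range,
    ⟨(MonoidHom.ofInjective (quaternionHom_injective u4 wconj (ww.trans uu.symm) hwne huu)).symm⟩,
    ⟨(MonoidHom.ofInjective (dihedralHom_injective y4 xconj xx hxne hyy)).symm⟩, hAB, ?_, ?_⟩,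
    x, x.2, y, y.2, fun h => hxne (Subtype.ext h)⟩
  · rw [eq_top_iff]
    intro t _
    obtain ⟨i, j, k, l, m, hm, rfl⟩ := decomp t
    have hA := (show φ.range ≤ φ.range ⊔ ψ.range from le_sup_left)
    have hB := (show ψ.range ≤ φ.range ⊔ ψ.range from le_sup_right)
    refine mul_mem (mul_mem (mul_mem (pow_mem (hB mem_x) _) (pow_mem (hB mem_y) _))
      (mul_mem (pow_mem (hA mem_u) _) (pow_mem (hA mem_w) _))) ?_
    rcases hm with rfl | rfl
    · exact one_mem _
    · exact hA mem_cA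
  · refine le_antisymm (fun t ht => Subgroup.mem_center_iff.mpr fun g => ?_) fun t ht => ?_
    · obtain ⟨i, j, k, l, m, hm, rfl⟩ := decomp g
      have cA : ∀ a ∈ φ.range, Commute a t := fun a ha => hAB a ha t ht.2
      have cB : ∀ b ∈ ψ.range, Commute b t := fun b hb => (hAB t ht.1 b hb).symm
      have cm : Commute m t := by
        rcases hm with rfl | rfl
        · exact Commute.one_left t
        · exact hccomm t
      exact (((((cB x mem_x).pow_left _).mul_left ((cB y mem_y).pow_left _)).mul_left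
        (((cA u mem_u).pow_left _).mul_left ((cA w mem_w).pow_left _))).mul_left cm).eq
    · have hct : ∀ g, Commute t g := fun g => (Subgroup.mem_center_iff.mp ht g).symm
      obtain ⟨i, j, k, l, m, hm, rfl⟩ := decomp t
      have cm : ∀ g, Commute m g := fun g => by
        rcases hm with rfl | rfl
        · exact Commute.one_left g
        · exact hccomm g
      have strip : ∀ g : Q, Commute (x ^ i.val * y ^ j.val * (u ^ k.val * w ^ l.val)) g := fun g => by
        have := (hct g).mul_left (cm g).inv_left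
        rwa [mul_inv_cancel_right] at this
      have two : ∀ n : Fin 2, n = 0 ∨ n = 1 := by decide
      have hi : i = 0 := by
        rcases two i with h | h
        · exact h
        · exfalso
          have h1 := (strip y).mul_left (((cyu.symm.pow_left k.val).mul_left (cyw.symm.pow_left l.val))).inv_left
          rw [mul_inv_cancel_right] at h1
          have h2 := h1.mul_left ((Commute.refl y).pow_left j.val).inv_left
          rw [mul_inv_cancel_right, h, Fin.val_one, pow_one] at h2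
          exact hxne h2
      have hj : j = 0 := by
        rcases two j with h | h
        · exact h
        · exfalso
          have h1 := (strip x).mul_left (((cxu.symm.pow_left k.val).mul_left (cxw.symm.pow_left l.val))).inv_left
          rw [mul_inv_cancel_right, hi, h, Fin.val_zero, Fin.val_one, pow_zero, pow_one, one_mul] at h1
          exact hxne h1.symm
      subst hi hj
      simp only [Fin.val_zero, pow_zero, one_mul] at strip ⊢
      have hk : k = 0 := by
        rcases two k with h | h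
        · exact h
        · exfalso
          have h1 := (strip w).mul_left ((Commute.refl w).pow_left l.val).inv_left
          rw [mul_inv_cancel_right, h, Fin.val_one, pow_one] at h1
          exact hwne h1.symm
      have hl : l = 0 := by
        rcases two l with h | h
        · exact h
        · exfalso
          have h1 := strip u
          rw [hk, h, Fin.val_zero, Fin.val_one, pow_zero, pow_one, one_mul] at h1
          exact hwne h1
      subst hk hl
      simp only [Fin.val_zero, pow_zero, one_mul]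
      rcases hm with rfl | rfl
      · exact one_mem _
      · exact ⟨mem_cA, mem_cB⟩

end Cfsg.Agent.H40.AFiveRadical
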