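import Cfsg.Agent.H40.AFiveRadical.Layer16
import Cfsg.Agent.H40.AFiveRadical.Shape
import Cfsg.Agent.H40.AFiveRadical.Layer2
import Mathlib.GroupTheory.SpecificGroups.Alternating.Simple

/-!
The radical under a section isomorphic to the alternating group of degree five.
-/

set_option autoImplicit false
set_option linter.style.haveILetI false
set_option linter.unusedSectionVars false

namespace Cfsg.Agent.H40.AFiveRadical

variable {X : Type*} [Group X] [Finite X] {Q : Subgroup X}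

theorem map_minimal (A N : Subgroup X) [N.Normal] (hNA : N < A)
    (hmax : ∀ Y : Subgroup X, Y.Normal → N ≤ Y → Y < A → Y = N) :
    A.map (QuotientGroup.mk' N) ≠ ⊥ ∧
      ∀ Y : Subgroup (X ⧸ N), Y.Normal → Y ≤ A.map (QuotientGroup.mk' N) →
        Y = ⊥ ∨ Y = A.map (QuotientGroup.mk' N) := by
  have hfs := QuotientGroup.mk'_surjective N
  refine ⟨fun h => ?_, fun Y hY hYA => ?_⟩
  · rw [Subgroup.map_eq_bot_iff, QuotientGroup.ker_mk'] at h
    exact hNA.ne (le_antisymm hNA.le h)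
  have hle : Y.comap (QuotientGroup.mk' N) ≤ A := by
    refine (Subgroup.comap_mono hYA).trans ?_
    rw [Subgroup.comap_map_eq, QuotientGroup.ker_mk', sup_le_iff]
    exact ⟨le_rfl, hNA.le⟩
  have hNY : N ≤ Y.comap (QuotientGroup.mk' N) := fun n hn => by
    rw [Subgroup.mem_comap, show QuotientGroup.mk' N n = 1 from (QuotientGroup.eq_one_iff n).mpr hn]
    exact one_mem _
  rcases eq_or_lt_of_le hle with h | h
  · right
    rw [← h, Subgroup.map_comap_eq_self_of_surjective hfs]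
  · left
    have h' := hmax _ (hY.comap _) hNY h
    rw [← Subgroup.map_comap_eq_self_of_surjective hfs Y, h', Subgroup.map_eq_bot_iff, QuotientGroup.ker_mk']

/-- the first layer below the top has order two -/
theorem first_layer (h4 : Cfsg.SectionalPRankLE 2 4 X) [hQn : Q.Normal] (hQp : IsPGroup 2 Q) (D : Data Q)
    (P : Subgroup X) [hPn : P.Normal] (hPQ : P ≤ Q) (hsq : ∀ q ∈ Q, q * q ∈ P)
    (hgen : P ≤ Subgroup.closure {m | ∃ q ∈ Q, q * q = m}) (hP1 : P ≠ ⊥)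
    (hmin : ∀ Y : Subgroup X, Y.Normal → Y ≤ P → Y = ⊥ ∨ Y = P)
    (hne : ∃ q ∈ Q, D.ρ * q * D.ρ⁻¹ * q⁻¹ ∉ P) :
    Nat.card P = 2 ∧ Nat.card Q = 32 ∧ IsQD Q ∧ ∃ p ∈ Q, ∃ r ∈ Q, p * r ≠ r * p := by
  classical
  obtain ⟨hc, h2⟩ := Sec62.minimal_central hQp P hPQ hP1 hmin
  have hM : Cen Q P := ⟨hPQ, hc, h2, hsq⟩
  obtain ⟨hcard, ⟨Lf⟩⟩ := exists_lift h4 hQn hQp D P hPQ hsq hne
  by_cases hmove : ∃ m ∈ P, D.ρ * m * D.ρ⁻¹ ≠ m
  · exact absurd (layer16_false h4 hQp hM Lf hmove) id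
  push Not at hmove
  have hX : ∀ (y : X), ∀ w ∈ P, y * w = w * y :=
    D.fix_all P (fun q hq w hw => (hc w hw q hq).symm) D.ρQ fun w hw => mul_inv_eq_iff_eq_mul.mp (hmove w hw)
  obtain ⟨l, hlP, hl1⟩ : ∃ l ∈ P, l ≠ 1 := by
    by_contra h
    push Not at h
    exact hP1 (le_bot_iff.mp fun x hx => Subgroup.mem_bot.mpr (h x hx))
  have hnl : (Subgroup.zpowers l).Normal := ⟨fun m hm g => by
    rw [hX g m (Subgroup.zpowers_le.mpr hlP hm), mul_inv_cancel_right]; exact hm⟩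
  have hL : Subgroup.zpowers l = P := (hmin _ hnl (Subgroup.zpowers_le.mpr hlP)).resolve_left
    (fun h => hl1 (Subgroup.mem_bot.mp (h ▸ Subgroup.mem_zpowers l)))
  have hP2 : Nat.card P = 2 := by
    rw [← hL, Nat.card_zpowers]
    haveI := Fact.mk Nat.prime_two
    exact orderOf_eq_prime (by rw [pow_two]; exact h2 l hlP) hl1
  refine ⟨hP2, by rw [hcard, hP2], shape hM Lf hP2 ?_⟩
  by_contra h
  push Not at h
  refine hP1 (le_bot_iff.mp (hgen.trans ((Subgroup.closure_le _).mpr ?_)))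
  rintro _ ⟨q, hq, rfl⟩
  exact h q hq

/-- the hypotheses pass to quotients below the squares -/
theorem quot_data (D : Data Q) (P N : Subgroup X) [N.Normal] (hNP : N ≤ P) (hPQ : P ≤ Q)
    (hsq : ∀ q ∈ Q, q * q ∈ P) (hgen : P ≤ Subgroup.closure {m | ∃ q ∈ Q, q * q = m})
    (hne : ∃ q ∈ Q, D.ρ * q * D.ρ⁻¹ * q⁻¹ ∉ P) :
    ∃ D' : Data (Q.map (QuotientGroup.mk' N)),
      (∀ q ∈ Q.map (QuotientGroup.mk' N), q * q ∈ P.map (QuotientGroup.mk' N)) ∧
      P.map (QuotientGroup.mk' N) ≤ Subgroup.closure {m | ∃ q ∈ Q.map (QuotientGroup.mk' N), q * q = m} ∧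
      ∃ q ∈ Q.map (QuotientGroup.mk' N), D'.ρ * q * D'.ρ⁻¹ * q⁻¹ ∉ P.map (QuotientGroup.mk' N) := by
  refine ⟨D.map (QuotientGroup.mk' N) (QuotientGroup.mk'_surjective N)
    (by rw [QuotientGroup.ker_mk']; exact hNP.trans hPQ), ?_, ?_, ?_⟩
  · rintro _ ⟨q, hq, rfl⟩; rw [← map_mul]; exact Subgroup.mem_map_of_mem _ (hsq q hq)
  · refine (Subgroup.map_mono hgen).trans ?_
    rw [MonoidHom.map_closure]
    refine Subgroup.closure_mono ?_
    rintro _ ⟨m, ⟨q, hq, rfl⟩, rfl⟩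
    exact ⟨_, Subgroup.mem_map_of_mem _ hq, (map_mul _ q q).symm⟩
  · obtain ⟨q, hq, hq'⟩ := hne
    refine ⟨_, Subgroup.mem_map_of_mem _ hq, fun h => hq' ?_⟩
    simp only [Data.map, ← map_mul, ← map_inv] at h
    obtain ⟨b, hb, he⟩ := h
    have := mul_mem hb (hNP (QuotientGroup.eq.mp he))
    rwa [mul_inv_cancel_left] at this

/-- the two possible radicals -/
theorem radical_shape (h4 : Cfsg.SectionalPRankLE 2 4 X) [hQn : Q.Normal] (hQp : IsPGroup 2 Q) (D : Data Q)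
    (P : Subgroup X) [hPn : P.Normal] (hPQ : P ≤ Q) (hsq : ∀ q ∈ Q, q * q ∈ P)
    (hgen : P ≤ Subgroup.closure {m | ∃ q ∈ Q, q * q = m})
    (hne : ∃ q ∈ Q, D.ρ * q * D.ρ⁻¹ * q⁻¹ ∉ P) :
    ((∀ p ∈ Q, ∀ q ∈ Q, p * q = q * p) ∧ (∀ p ∈ Q, p * p = 1) ∧ Nat.card Q = 16) ∨
      (Nat.card Q = 32 ∧ IsQD Q) := by
  classical
  by_cases hP : P = ⊥
  · left
    subst hP
    have h2 : ∀ p ∈ Q, p * p = 1 := fun p hp => Subgroup.mem_bot.mp (hsq p hp)
    refine ⟨fun p hp q hq => congrArg Subtype.val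
      (Sec62.sq_comm (G := Q) (fun a => Subtype.ext (h2 a a.2)) ⟨p, hp⟩ ⟨q, hq⟩), h2, ?_⟩
    rw [(exists_lift h4 hQn hQp D ⊥ hPQ hsq hne).1, Subgroup.card_bot]
  obtain ⟨N, hN, hNP, hmax⟩ := Sec62.exists_maximal_below P hP
  by_cases hN1 : N = ⊥
  · right
    subst hN1
    obtain ⟨-, h32, hQD, -⟩ := first_layer h4 hQp D P hPQ hsq hgen hP (fun Y hY hYP => by
      rcases eq_or_lt_of_le hYP with h | h
      · exact Or.inr h
      · exact Or.inl (hmax Y hY bot_le h)) hne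
    exact ⟨h32, hQD⟩
  exfalso
  obtain ⟨D', hsq', hgen', hne'⟩ := quot_data D P N hNP.le hPQ hsq hgen hne
  obtain ⟨hP1', hmin'⟩ := map_minimal P N hNP hmax
  haveI : (Q.map (QuotientGroup.mk' N)).Normal := hQn.map _ (QuotientGroup.mk'_surjective N)
  haveI : (P.map (QuotientGroup.mk' N)).Normal := hPn.map _ (QuotientGroup.mk'_surjective N)
  obtain ⟨hP2, -, -, p', hp', r', hr', hpr⟩ := first_layer
    (FGS82.Meta2.rank_of_surjective h4 (QuotientGroup.mk' N) (QuotientGroup.mk'_surjective N))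
    (hQp.map _) D' (P.map (QuotientGroup.mk' N)) (Subgroup.map_mono hPQ) hsq' hgen' hP1' hmin' hne'
  obtain ⟨p, hp, rfl⟩ := hp'
  obtain ⟨r, hr, rfl⟩ := hr'
  obtain ⟨K, hK, hKN, hKmax⟩ := Sec62.exists_maximal_below N hN1
  have hKP : K ≤ P := hKN.le.trans hNP.le
  obtain ⟨D'', hsq'', hgen'', hne''⟩ := quot_data D P K hKP hPQ hsq hgen hne
  obtain ⟨hL1, hLmin⟩ := map_minimal N K hKN hKmax
  haveI : (Q.map (QuotientGroup.mk' K)).Normal := hQn.map _ (QuotientGroup.mk'_surjective K)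
  haveI : (P.map (QuotientGroup.mk' K)).Normal := hPn.map _ (QuotientGroup.mk'_surjective K)
  haveI : (N.map (QuotientGroup.mk' K)).Normal := hN.map _ (QuotientGroup.mk'_surjective K)
  refine layer2_false (FGS82.Meta2.rank_of_surjective h4 (QuotientGroup.mk' K) (QuotientGroup.mk'_surjective K))
    (hQp.map _) D'' (N.map (QuotientGroup.mk' K)) (P.map (QuotientGroup.mk' K)) (Subgroup.map_mono hNP.le)
    (Subgroup.map_mono hPQ) hL1 hLmin ?_ hsq'' hgen'' hne'' ?_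
  · refine Nat.eq_of_mul_eq_mul_right (Nat.card_pos (α := K)) ?_
    rw [Sec62.card_map_mk K P hKP, mul_assoc, Sec62.card_map_mk K N hKN.le, ← hP2, Sec62.card_map_mk N P hNP.le]
  · refine ⟨_, Subgroup.mem_map_of_mem _ hp, _, Subgroup.mem_map_of_mem _ hr, fun h => hpr ?_⟩
    simp only [← map_mul, ← map_inv] at h
    obtain ⟨b, hb, he⟩ := h
    have h1 := mul_mem hb (hKN.le (QuotientGroup.eq.mp he))
    rw [mul_inv_cancel_left] at h1
    have h2 : QuotientGroup.mk' N (p * r * p⁻¹ * r⁻¹) = 1 := (QuotientGroup.eq_one_iff _).mpr h1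
    rw [map_mul, map_mul, map_mul, map_inv, map_inv, mul_inv_eq_one, mul_inv_eq_iff_eq_mul] at h2
    exact h2

theorem IsQD.of_equiv {Y : Type*} [Group Y] {R : Subgroup Y} (e : Q ≃* R) (h : IsQD Q) : IsQD R := by
  obtain ⟨A, B, ⟨eA⟩, ⟨eB⟩, hc, hsup, hinf⟩ := h
  refine ⟨A.map e.toMonoidHom, B.map e.toMonoidHom,
    ⟨(A.equivMapOfInjective _ e.injective).symm.trans eA⟩,
    ⟨(B.equivMapOfInjective _ e.injective).symm.trans eB⟩, ?_, ?_, ?_⟩
  · rintro _ ⟨a, ha, rfl⟩ _ ⟨b, hb, rfl⟩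
    rw [← map_mul, ← map_mul, hc a ha b hb]
  · rw [← Subgroup.map_sup, hsup, Subgroup.map_top_of_surjective _ e.surjective]
  · rw [← Subgroup.map_inf A B e.toMonoidHom e.injective, hinf]
    ext y
    constructor
    · rintro ⟨c, hc', rfl⟩
      rw [Subgroup.mem_center_iff]
      intro g
      obtain ⟨g, rfl⟩ := e.surjective g
      show e g * e c = e c * e g
      rw [← map_mul, ← map_mul, Subgroup.mem_center_iff.mp hc' g]
    · intro hy
      refine ⟨e.symm y, Subgroup.mem_center_iff.mpr fun g => e.injective ?_, e.apply_symm_apply y⟩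
      rw [map_mul, map_mul, e.apply_symm_apply, Subgroup.mem_center_iff.mp hy]

theorem data_elems : ∃ σ r a g h : alternatingGroup (Fin 5), σ ^ 5 = 1 ∧ r ^ 3 = 1 ∧ σ ≠ 1 ∧ r ≠ 1 ∧ a ≠ 1 ∧
    a * a = 1 ∧ a * σ * a⁻¹ * σ = 1 ∧ a * (g * a * g⁻¹) * (h * a * h⁻¹)⁻¹ = 1 ∧
    a * (g * a * g⁻¹) * a⁻¹ * (g * a * g⁻¹)⁻¹ = 1 ∧ a * (g * a * g⁻¹) ≠ 1 :=
  ⟨⟨Equiv.swap 0 1 * Equiv.swap 1 2 * Equiv.swap 2 3 * Equiv.swap 3 4, Equiv.Perm.mem_alternatingGroup.mpr (by decide +kernel)⟩,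
    ⟨Equiv.swap 0 1 * Equiv.swap 1 2, Equiv.Perm.mem_alternatingGroup.mpr (by decide +kernel)⟩,
    ⟨Equiv.swap 1 4 * Equiv.swap 2 3, Equiv.Perm.mem_alternatingGroup.mpr (by decide +kernel)⟩,
    ⟨Equiv.swap 1 2 * Equiv.swap 2 4, Equiv.Perm.mem_alternatingGroup.mpr (by decide +kernel)⟩,
    ⟨Equiv.swap 1 3 * Equiv.swap 3 4, Equiv.Perm.mem_alternatingGroup.mpr (by decide +kernel)⟩, by decide +kernel⟩

/-- data over an image isomorphic to the alternating group -/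
theorem exists_data [hQn : Q.Normal] (hQp : IsPGroup 2 Q) (φ : X →* alternatingGroup (Fin 5))
    (hφ : Function.Surjective φ) (hker : φ.ker = Q) : Nonempty (Data Q) := by
  classical
  obtain ⟨σ, r, a, g, h, hσ5, hr3, hσ, hr, ha, ha2, hinv, hcd, hcomm, hab⟩ := data_elems
  have hQ : ∀ x, x ∈ Q ↔ φ x = 1 := fun x => by rw [← hker, MonoidHom.mem_ker]
  have lift : ∀ (s : alternatingGroup (Fin 5)) (p : ℕ), (p = 3 ∨ p = 5) → s ^ p = 1 →
      ∃ x, φ x = s ∧ x ^ p = 1 := by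
    intro s p hp hs
    obtain ⟨x, rfl⟩ := hφ s
    obtain ⟨k, hk⟩ := hQp ⟨x ^ p, (hQ _).mpr (by rw [map_pow, hs])⟩
    have hk' : (x ^ p) ^ (2 ^ k) = 1 := congrArg Subtype.val hk
    refine ⟨x ^ (16 ^ k), ?_, ?_⟩
    · rw [map_pow]
      have : 16 ^ k % p = 1 := by
        rcases hp with rfl | rfl <;> simp [Nat.pow_mod]
      rw [← Nat.div_add_mod (16 ^ k) p, this, pow_add, pow_mul, hs, one_pow, one_mul, pow_one]
    · rw [← pow_mul, mul_comm, show 16 ^ k = 2 ^ k * (2 ^ k * (2 ^ k * 2 ^ k)) by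
        rw [← mul_pow, ← mul_pow, ← mul_pow]; norm_num, ← mul_assoc, pow_mul, pow_mul x, hk', one_pow]
  obtain ⟨ρ', hρ, hρ5⟩ := lift σ 5 (Or.inr rfl) hσ5
  obtain ⟨r', hr', hr3'⟩ := lift r 3 (Or.inl rfl) hr3
  obtain ⟨a', ha'⟩ := hφ a
  obtain ⟨g', hg'⟩ := hφ g
  obtain ⟨h', hh'⟩ := hφ h
  exact ⟨{
    ρ := ρ', r := r', a := a', b := g' * a' * g'⁻¹, g := g', h := h'
    ρ5 := hρ5
    r3 := hr3'
    ρQ := fun hm => hσ (by rw [← hρ]; exact (hQ _).mp hm)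
    rQ := fun hm => hr (by rw [← hr']; exact (hQ _).mp hm)
    aQ := fun hm => ha (by rw [← ha']; exact (hQ _).mp hm)
    a2 := (hQ _).mpr (by rw [map_mul, ha', ha2])
    inv := (hQ _).mpr (by simpa [hρ, ha'] using hinv)
    b_def := rfl
    c_def := (hQ _).mpr (by simpa [ha', hg', hh', mul_assoc] using hcd)
    comm := (hQ _).mpr (by simpa [ha', hg', mul_assoc] using hcomm)
    abQ := fun hm => hab (by simpa [ha', hg'] using (hQ _).mp hm)
    simple := fun N hN hQN => by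
      rcases (inferInstance : IsSimpleGroup (alternatingGroup (Fin 5))).eq_bot_or_eq_top_of_normal (N.map φ)
        (hN.map φ hφ) with hb | hb
      · left
        exact le_antisymm (hker ▸ (Subgroup.map_eq_bot_iff N).mp hb) hQN
      · right
        rw [eq_top_iff]
        intro x _
        obtain ⟨n, hn, he⟩ := hb.ge (Subgroup.mem_top (φ x))
        have := mul_mem hn (hQN ((hQ _).mpr (show φ (n⁻¹ * x) = 1 by rw [map_mul, map_inv, he, inv_mul_cancel])))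
        rwa [mul_inv_cancel_left] at this }⟩

end Cfsg.Agent.H40.AFiveRadical
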