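import Cfsg.Agent.H40.AFiveRadical.Main

/-!
The radical of a 2-constrained group over the alternating group of degree five.
-/

set_option autoImplicit false
set_option linter.style.haveILetI false

namespace Cfsg.Agent.H40.AFiveRadical

variable {X : Type*} [Group X] [Finite X]

theorem result_shape (hc : Cfsg.IsPConstrained 2 X) (hO : Cfsg.oddCore X = ⊥)
    (h4 : Cfsg.SectionalPRankLE 2 4 X)
    (hQ : ∃ A : Subgroup (X ⧸ Cfsg.pCore 2 X), Nonempty (↥A ≃* ↥(alternatingGroup (Fin 5)))) :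
    (Cfsg.IsElementaryAbelian 2 (Cfsg.pCore 2 X) ∧ Nat.card ↥(Cfsg.pCore 2 X) = 16) ∨
      (Nat.card ↥(Cfsg.pCore 2 X) = 32 ∧ IsQD (Cfsg.pCore 2 X)) := by
  classical
  haveI := Fact.mk Nat.prime_two
  have hC := S3103.constrained_centralizer hc hO
  obtain ⟨A, ⟨e⟩⟩ := hQ
  have hQp : IsPGroup 2 ↥(Cfsg.pCore 2 X) := Thompson.isPGroup_pCore
  obtain ⟨Y, hY⟩ : ∃ Y : Subgroup X, Y = A.comap (QuotientGroup.mk' (Cfsg.pCore 2 X)) := ⟨_, rfl⟩
  have hQY : Cfsg.pCore 2 X ≤ Y := fun q hq => by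
    rw [hY, Subgroup.mem_comap, show QuotientGroup.mk' (Cfsg.pCore 2 X) q = 1 from (QuotientGroup.eq_one_iff q).mpr hq]
    exact one_mem _
  let R : Subgroup Y := (Cfsg.pCore 2 X).subgroupOf Y
  let eR : R ≃* Cfsg.pCore 2 X := Subgroup.subgroupOfEquivOfLe hQY
  have hRp : IsPGroup 2 R := hQp.of_equiv eR.symm
  subst hY
  let φ : A.comap (QuotientGroup.mk' (Cfsg.pCore 2 X)) →* alternatingGroup (Fin 5) :=
    e.toMonoidHom.comp ((QuotientGroup.mk' (Cfsg.pCore 2 X)).subgroupComap A)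
  have hφ : Function.Surjective φ := e.surjective.comp
    (MonoidHom.subgroupComap_surjective_of_surjective _ _ (QuotientGroup.mk'_surjective _))
  have hker : φ.ker = R := by
    ext y
    rw [MonoidHom.mem_ker, Subgroup.mem_subgroupOf, ← QuotientGroup.eq_one_iff (N := Cfsg.pCore 2 X) (y : X)]
    constructor
    · intro h
      exact congrArg Subtype.val (e.injective (h.trans (map_one e).symm))
    · intro h
      show e _ = 1
      rw [← map_one e]
      exact congrArg e (Subtype.ext h)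
  haveI : R.Normal := hker ▸ φ.normal_ker
  obtain ⟨D⟩ := exists_data hRp φ hφ hker
  let P := Subgroup.closure {m | ∃ q ∈ R, q * q = m}
  haveI : P.Normal := ⟨fun p hp g => by
    have hle : P ≤ P.comap (MulAut.conj g).toMonoidHom := by
      rw [Subgroup.closure_le]
      rintro _ ⟨q, hq, rfl⟩
      refine Subgroup.subset_closure ⟨g * q * g⁻¹, (inferInstance : R.Normal).conj_mem q hq g, ?_⟩
      simp only [MulEquiv.coe_toMonoidHom, MulAut.conj_apply]
      group
    simpa using hle hp⟩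
  have hPR : P ≤ R := (Subgroup.closure_le _).mpr (by rintro _ ⟨q, hq, rfl⟩; exact mul_mem hq hq)
  have hfr : ∀ p ∈ P, (p : X) ∈ (frattini ↥(Cfsg.pCore 2 X)).map (Cfsg.pCore 2 X).subtype := by
    intro p hp
    have hle : P ≤ ((frattini ↥(Cfsg.pCore 2 X)).map (Cfsg.pCore 2 X).subtype).comap
        (A.comap (QuotientGroup.mk' (Cfsg.pCore 2 X))).subtype := by
      rw [Subgroup.closure_le]
      rintro _ ⟨q, hq, rfl⟩
      refine ⟨⟨q, hq⟩ * ⟨q, hq⟩, ?_, rfl⟩
      rw [← pow_two]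
      exact PGroup.pow_mem_frattini hQp _
    exact hle hp
  have hne : ∃ q ∈ R, D.ρ * q * D.ρ⁻¹ * q⁻¹ ∉ P := by
    by_contra h
    push Not at h
    exact D.ρQ (Class49.mem_pCore_of_frattini_trivial hC fun q hq => hfr _ (h ⟨q, hQY hq⟩ hq))
  have hcardR : Nat.card R = Nat.card (Cfsg.pCore 2 X) := Nat.card_congr eR.toEquiv
  rcases radical_shape (Sec62.rank_sub h4 _) hRp D P hPR (fun q hq => Subgroup.subset_closure ⟨q, hq, rfl⟩) le_rfl hne
    with ⟨hcomm, h2, h16⟩ | ⟨h32, hQD⟩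
  · refine Or.inl ⟨⟨⟨⟨fun a b => eR.symm.injective ?_⟩⟩, fun a ha => ?_⟩, hcardR ▸ h16⟩
    · rw [map_mul, map_mul]
      exact Subtype.ext (hcomm _ (eR.symm a).2 _ (eR.symm b).2)
    · rw [pow_two]
      exact congrArg Subtype.val (h2 ⟨a, hQY ha⟩ ha)
  · exact Or.inr ⟨hcardR ▸ h32, hQD.of_equiv eR⟩

end Cfsg.Agent.H40.AFiveRadical
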