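import Cfsg.Agent.H40.AFiveRadical.Data

/-!
The squaring map from `Q / M` to a central elementary subgroup `M` containing the squares.
-/

set_option autoImplicit false
set_option linter.style.haveILetI false

namespace Cfsg.Agent.H40.AFiveRadical

variable {X : Type*} [Group X] [Finite X] {Q M : Subgroup X}

/-- a central elementary subgroup containing all squares -/
structure Cen (Q M : Subgroup X) : Prop where
  le : M ≤ Q
  comm : ∀ m ∈ M, ∀ q ∈ Q, m * q = q * m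
  exp : ∀ m ∈ M, m * m = 1
  sq : ∀ q ∈ Q, q * q ∈ M

theorem Cen.sq_congr (hM : Cen Q M) {p q : X} (hq : q ∈ Q) (h : q⁻¹ * p ∈ M) : p * p = q * q := by
  obtain ⟨m, hm, rfl⟩ : ∃ m ∈ M, p = q * m := ⟨_, h, (mul_inv_cancel_left _ _).symm⟩
  rw [mul_assoc, ← mul_assoc m, hM.comm m hm q hq, mul_assoc q m, hM.exp m hm, mul_one]

theorem Cen.comm_mem (hM : Cen Q M) {p q : X} (hp : p ∈ Q) (hq : q ∈ Q) : p * q * p⁻¹ * q⁻¹ ∈ M :=
  comm_mem_of_sq hM.sq p hp q hq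

theorem Cen.sq_mul (hM : Cen Q M) {p q : X} (hp : p ∈ Q) (hq : q ∈ Q) :
    p * q * (p * q) = q * p * q⁻¹ * p⁻¹ * (p * p) * (q * q) := by
  have h := hM.comm _ (hM.comm_mem hq hp) p hp
  calc p * q * (p * q) = p * (q * p * q⁻¹ * p⁻¹) * (p * q * q) := by group
    _ = q * p * q⁻¹ * p⁻¹ * p * (p * q * q) := by rw [← h]
    _ = _ := by group

theorem Cen.comm_mul (hM : Cen Q M) {p q x : X} (hp : p ∈ Q) (hq : q ∈ Q) (hx : x ∈ Q) :
    p * (q * x) * p⁻¹ * (q * x)⁻¹ = (p * q * p⁻¹ * q⁻¹) * (p * x * p⁻¹ * x⁻¹) := by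
  have h := hM.comm _ (hM.comm_mem hp hx) q hq
  calc p * (q * x) * p⁻¹ * (q * x)⁻¹ = (p * q * p⁻¹ * q⁻¹) * (q * (p * x * p⁻¹ * x⁻¹) * q⁻¹) := by group
    _ = _ := by rw [← h, mul_inv_cancel_right]

/-- the sum of the seven squares vanishes -/
theorem Cen.seven (hM : Cen Q M) {x y z : X} (hx : x ∈ Q) (hy : y ∈ Q) (hz : z ∈ Q) :
    x * y * z * (x * y * z) * (x * y * (x * y)) * (x * z * (x * z)) * (y * z * (y * z)) * (x * x) * (y * y) *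
      (z * z) = 1 := by
  rw [hM.sq_mul (mul_mem hx hy) hz, hM.comm_mul hz hx hy, hM.sq_mul hx hy, hM.sq_mul hx hz, hM.sq_mul hy hz]
  letI : CommGroup M := { (inferInstance : Group M) with
    mul_comm := fun a b => Subtype.ext (hM.comm a a.2 b (hM.le b.2)) }
  obtain ⟨a, ha⟩ : ∃ a : M, (a : X) = x * x := ⟨⟨_, hM.sq x hx⟩, rfl⟩
  obtain ⟨b, hb⟩ : ∃ b : M, (b : X) = y * y := ⟨⟨_, hM.sq y hy⟩, rfl⟩
  obtain ⟨c, hc⟩ : ∃ c : M, (c : X) = z * z := ⟨⟨_, hM.sq z hz⟩, rfl⟩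
  obtain ⟨d, hd⟩ : ∃ d : M, (d : X) = z * x * z⁻¹ * x⁻¹ := ⟨⟨_, hM.comm_mem hz hx⟩, rfl⟩
  obtain ⟨f, hf⟩ : ∃ f : M, (f : X) = z * y * z⁻¹ * y⁻¹ := ⟨⟨_, hM.comm_mem hz hy⟩, rfl⟩
  obtain ⟨g, hg⟩ : ∃ g : M, (g : X) = y * x * y⁻¹ * x⁻¹ := ⟨⟨_, hM.comm_mem hy hx⟩, rfl⟩
  rw [← ha, ← hb, ← hc, ← hd, ← hf, ← hg]
  simp only [← Subgroup.coe_mul]
  refine (congrArg Subtype.val (?_ : _ = (1 : M))).trans (Subgroup.coe_one _)
  have h2 : ∀ m : M, m * m = 1 := fun m => Subtype.ext (hM.exp m m.2)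
  calc d * f * (g * a * b) * c * (g * a * b) * (d * a * c) * (f * b * c) * a * b * c
      = (d * d) * (f * f) * (g * g) * ((a * a) * (a * a)) * ((b * b) * (b * b)) * ((c * c) * (c * c)) := by ac_rfl
    _ = 1 := by simp only [h2, mul_one]

variable {D : Data Q}

theorem Lift.congr (Lf : Lift D M) (hM : Cen Q M) {v : V} {p : X} (h : (Lf.L v)⁻¹ * p ∈ M) :
    p * p = Lf.L v * Lf.L v :=
  hM.sq_congr (Lf.mem v) h

theorem Lift.three (Lf : Lift D M) (hM : Cen Q M) (x y z : V) :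
    (Lf.L (x + y + z))⁻¹ * (Lf.L x * Lf.L y * Lf.L z) ∈ M := by
  have h1 := Lf.add (x + y) z
  have h2 := Lf.add x y
  have h3 := mul_mem h1 h2
  refine cast (congrArg (· ∈ M) ?_) h3
  calc (Lf.L (x + y + z))⁻¹ * (Lf.L (x + y) * Lf.L z) * ((Lf.L (x + y))⁻¹ * (Lf.L x * Lf.L y))
      = (Lf.L (x + y + z))⁻¹ * Lf.L (x + y) * (Lf.L z * ((Lf.L (x + y))⁻¹ * (Lf.L x * Lf.L y))) := by group
    _ = (Lf.L (x + y + z))⁻¹ * Lf.L (x + y) * ((Lf.L (x + y))⁻¹ * (Lf.L x * Lf.L y) * Lf.L z) := by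
        rw [hM.comm _ h2 _ (Lf.mem z)]
    _ = _ := by group

theorem Lift.L_zero (Lf : Lift D M) : Lf.L 0 ∈ M := by
  have h := Lf.add 0 0
  rw [add_zero, inv_mul_cancel_left] at h
  exact h

theorem Lift.sub_mem (Lf : Lift D M) (hM : Cen Q M) {u v : V} {p : X} (hu : (Lf.L u)⁻¹ * p ∈ M)
    (hv : (Lf.L v)⁻¹ * p ∈ M) : u = v := by
  have h1 : (Lf.L u)⁻¹ * Lf.L v ∈ M := by
    have := mul_mem hu (inv_mem hv)
    rwa [mul_inv_rev, inv_inv, mul_assoc, mul_inv_cancel_left] at this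
  have h2 := mul_mem (hM.sq _ (Lf.mem u)) h1
  rw [mul_assoc, mul_inv_cancel_left] at h2
  have h3 := mul_mem h2 (inv_mem (Lf.add u v))
  rw [mul_inv_rev, inv_inv, mul_inv_cancel_left] at h3
  exact CharTwo.add_eq_zero.mp (Lf.zero _ h3)

/-- the action on `Q / M` in coordinates -/
theorem exists_action [Q.Normal] [hMn : M.Normal] (Lf : Lift D M) (hM : Cen Q M) :
    ∃ π : X → V → V, (∀ x v, (Lf.L (π x v))⁻¹ * (x * Lf.L v * x⁻¹) ∈ M) ∧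
      (∀ x u v, π x (u + v) = π x u + π x v) ∧ (∀ x y v, π (x * y) v = π x (π y v)) ∧
      (∀ q ∈ Q, ∀ v, π q v = v) ∧ (∀ v, π D.ρ v = mR v) ∧ ∀ v, π D.a v = mA v := by
  have h : ∀ x v, ∃ u, (Lf.L u)⁻¹ * (x * Lf.L v * x⁻¹) ∈ M := fun x v =>
    Lf.cover _ (‹Q.Normal›.conj_mem _ (Lf.mem v) x)
  choose π hπ using h
  refine ⟨π, hπ, fun x u v => Lf.sub_mem hM (hπ x _) ?_, fun x y v => Lf.sub_mem hM (hπ _ v) ?_,
    fun q hq v => Lf.sub_mem hM (hπ q v) ?_, fun v => Lf.sub_mem hM (hπ _ v) (Lf.R v),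
    fun v => Lf.sub_mem hM (hπ _ v) (Lf.A v)⟩
  · have h1 := hMn.conj_mem _ (Lf.add u v) x
    have h2 := hπ x u
    have h3 := hπ x v
    have h4 := hM.comm _ h2 _ (Lf.mem (π x v))
    have h5 := mul_mem (mul_mem (mul_mem (Lf.add (π x u) (π x v)) h2) h3) (inv_mem h1)
    refine cast (congrArg (· ∈ M) ?_) h5
    calc (Lf.L (π x u + π x v))⁻¹ * (Lf.L (π x u) * Lf.L (π x v)) * ((Lf.L (π x u))⁻¹ * (x * Lf.L u * x⁻¹)) *
          ((Lf.L (π x v))⁻¹ * (x * Lf.L v * x⁻¹)) * (x * ((Lf.L (u + v))⁻¹ * (Lf.L u * Lf.L v)) * x⁻¹)⁻¹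
        = (Lf.L (π x u + π x v))⁻¹ * Lf.L (π x u) * (Lf.L (π x v) * ((Lf.L (π x u))⁻¹ * (x * Lf.L u * x⁻¹))) *
          ((Lf.L (π x v))⁻¹ * (x * Lf.L v * x⁻¹)) * (x * ((Lf.L (u + v))⁻¹ * (Lf.L u * Lf.L v)) * x⁻¹)⁻¹ := by group
      _ = _ := by rw [← h4]; group
  · have h2 := mul_mem (hπ x (π y v)) (hMn.conj_mem _ (hπ y v) x)
    refine cast (congrArg (· ∈ M) ?_) h2
    group
  · have h1 := hM.comm_mem (inv_mem (Lf.mem v)) hq
    refine cast (congrArg (· ∈ M) ?_) h1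
    group

/-- the squaring form in coordinates -/
structure Form (Lf : Lift D M) {T : Type} [AddCommGroup T] (e : T → X) where
  q : V → T
  spec : ∀ v, e (q v) = Lf.L v * Lf.L v
  zero : q 0 = 0
  tri0 : ∀ x y z, tri q x y z = 0
  bil : ∀ x y, e (br q x y) = Lf.L x * Lf.L y * (Lf.L x)⁻¹ * (Lf.L y)⁻¹
  nat : ∀ (x : X) (φ : V → V) (ψ : T → T), (∀ t, e (ψ t) = x * e t * x⁻¹) →
    (∀ v, (Lf.L (φ v))⁻¹ * (x * Lf.L v * x⁻¹) ∈ M) → ∀ v, q (φ v) = ψ (q v)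
  gen : ∀ H : Subgroup X, (∀ v, e (q v) ∈ H) → ∀ m ∈ Q, m * m ∈ H

theorem exists_form (Lf : Lift D M) (hM : Cen Q M) {T : Type} [AddCommGroup T] (e : T → X)
    (hinj : Function.Injective e) (hsurj : ∀ m ∈ M, ∃ t, e t = m) (hadd : ∀ u v, e (u + v) = e u * e v) :
    Nonempty (Form Lf e) := by
  have hx : ∀ v, ∃ t, e t = Lf.L v * Lf.L v := fun v => hsurj _ (hM.sq _ (Lf.mem v))
  choose q hq using hx
  have he0 : e 0 = 1 := by simpa using (left_eq_mul.mp ((congrArg e (add_zero (0 : T))).symm.trans (hadd 0 0)))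
  refine ⟨⟨q, hq, hinj ?_, fun x y z => hinj ?_, fun x y => ?_, fun x φ ψ hψ hφ v => hinj ?_,
    fun H hH m hm => ?_⟩⟩
  · rw [hq, hM.exp _ Lf.L_zero, he0]
  · rw [he0, tri, hadd, hadd, hadd, hadd, hadd, hadd, hq, hq, hq, hq, hq, hq, hq, ← Lf.congr hM (Lf.three hM x y z),
      ← Lf.congr hM (Lf.add x y), ← Lf.congr hM (Lf.add x z), ← Lf.congr hM (Lf.add y z)]
    exact hM.seven (Lf.mem x) (Lf.mem y) (Lf.mem z)
  · rw [br, hadd, hadd, hq, hq, hq, ← Lf.congr hM (Lf.add x y), hM.sq_mul (Lf.mem x) (Lf.mem y)]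
    generalize hp : Lf.L x = p, hr : Lf.L y = r
    have hpQ : p ∈ Q := hp ▸ Lf.mem x
    have hrQ : r ∈ Q := hr ▸ Lf.mem y
    have hc := hM.comm _ (hM.sq r hrQ) (p * p) (mul_mem hpQ hpQ)
    have hinv : r * p * r⁻¹ * p⁻¹ = p * r * p⁻¹ * r⁻¹ := by
      rw [← inv_eq_of_mul_eq_one_right (hM.exp _ (hM.comm_mem hrQ hpQ))]; group
    calc r * p * r⁻¹ * p⁻¹ * (p * p) * (r * r) * (p * p) * (r * r)
        = r * p * r⁻¹ * p⁻¹ * (p * p) * ((r * r) * (p * p)) * (r * r) := by group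
      _ = r * p * r⁻¹ * p⁻¹ * ((p * p) * (p * p)) * ((r * r) * (r * r)) := by rw [hc]; group
      _ = _ := by rw [hM.exp _ (hM.sq p hpQ), hM.exp _ (hM.sq r hrQ), mul_one, mul_one, hinv]
  · rw [hψ, hq, hq, ← Lf.congr hM (hφ v)]
    group
  · obtain ⟨v, hv⟩ := Lf.cover m hm
    rw [Lf.congr hM hv, ← hq]
    exact hH v

end Cfsg.Agent.H40.AFiveRadical
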